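import Cfsg.Agent.AppC.Box

set_option autoImplicit false
set_option linter.style.haveILetI false

/-!
Multipliers fixing the binomial coefficients `p.choose j` modulo `q`, for primes `q < p` with
`q ∤ p - 1`: there are too few of them to contradict `p ≤ q`.
-/

namespace Cfsg.Agent.AppC

open Finset Polynomial

/-- `p.choose j` modulo `q`, as a function of `j` modulo `p`. -/
def coef (p q : ℕ) (j : ZMod p) : ZMod q := (p.choose j.val : ZMod q)

/-- The multipliers preserving `coef`. -/
def gam (p q : ℕ) [NeZero p] : Finset (ZMod p) :=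
  univ.filter fun D => D ≠ 0 ∧ ∀ j : ZMod p, j ≠ 0 → coef p q (D * j) = coef p q j

/-- The finitely many small cases. -/
def smallOK (q b : ℕ) : Bool :=
  (List.range b).all fun n =>
    decide (q < n → 2 ≤ n % q → (∀ d ∈ List.range' 2 26, n % d = 0 → n = d) →
      (mom q 8 n).2.2 % n = 0 → (mom q 8 n).1 = n + 1)

theorem small_check : smallOK 3 750 = true ∧ smallOK 5 150 = true ∧ smallOK 7 100 = true ∧
    smallOK 11 150 = true := by
  decide +kernel

theorem boxSum_one (W : List (ℕ × ℕ)) :
    boxSum W (fun _ => (1 : ℤ)) = (((W.map fun wd => wd.2 + 1).prod : ℕ) : ℤ) := by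
  induction W with
  | nil => simp [boxSum]
  | cons wd l ih => simp [boxSum, ih]

theorem IsWeights.card {q n : ℕ} {W : List (ℕ × ℕ)} (h : IsWeights q n W) :
    (supp q n).card = (W.map fun wd => wd.2 + 1).prod := by
  have := h.sum ℤ inferInstance fun _ => 1
  rw [boxSum_one] at this
  simp only [Finset.sum_const, nsmul_eq_mul, mul_one] at this
  exact_mod_cast this

theorem six_sum {R : Type*} [CommRing R] (n : ℕ) :
    2 * (∑ e ∈ range (n + 1), (e : R)) = (n : R) * ((n : R) + 1) ∧
      6 * (∑ e ∈ range (n + 1), (e : R) ^ 2) = (n : R) * ((n : R) + 1) * (2 * (n : R) + 1) := by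
  induction n with
  | zero => simp
  | succ n ih =>
    refine ⟨?_, ?_⟩ <;> rw [Finset.sum_range_succ _ (n + 1), mul_add]
    · rw [ih.1]; push_cast; ring
    · rw [ih.2]; push_cast; ring

theorem diff_const_zero {K : Type*} [AddCommGroup K] (l : List ℕ) (x : ℕ) :
    diff l (fun _ : ℕ => (0 : K)) x = 0 := by
  induction l with
  | nil => rfl
  | cons w l ih => simpa [diff] using ih

theorem zero_mem_subs (l : List ℕ) : 0 ∈ subs l := by
  induction l with
  | nil => simp [subs]
  | cons w l ih => simp [subs, ih]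

theorem diff_poly {K : Type*} [CommRing K] [IsDomain K] (l : List ℕ) (P : K[X]) :
    ∃ Q : K[X], (Q = 0 ∨ Q.natDegree + l.length ≤ P.natDegree) ∧
      ∀ x : ℕ, diff l (fun x : ℕ => P.eval (x : K)) x = Q.eval (x : K) := by
  induction l generalizing P with
  | nil => exact ⟨P, Or.inr le_rfl, fun x => rfl⟩
  | cons w l ih =>
    set P' := P.comp (X + C (w : K)) - P with hP'
    have hfun : (fun x : ℕ => P.eval ((w + x : ℕ) : K) - P.eval (x : K)) =
        fun x : ℕ => P'.eval (x : K) := by
      funext x
      simp [hP', add_comm]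
    by_cases h0 : P' = 0
    · refine ⟨0, Or.inl rfl, fun x => ?_⟩
      simp only [diff]
      rw [hfun, h0]
      simp only [eval_zero]
      exact diff_const_zero l x
    obtain ⟨Q, hQ, hev⟩ := ih P'
    refine ⟨Q, ?_, fun x => by simp only [diff]; rw [hfun]; exact hev x⟩
    rcases hQ with hQ | hQ
    · exact Or.inl hQ
    refine Or.inr ?_
    have hlt : P'.natDegree < P.natDegree := by
      have hP0 : P ≠ 0 := fun e => h0 (by simp [hP', e])
      have hd : (P.comp (X + C (w : K))).natDegree = P.natDegree := by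
        rw [natDegree_comp, natDegree_X_add_C, mul_one]
      have hlc : (P.comp (X + C (w : K))).leadingCoeff = P.leadingCoeff := by
        rw [leadingCoeff_comp (by rw [natDegree_X_add_C]; exact one_ne_zero),
          leadingCoeff_X_add_C, one_pow, mul_one]
      have hc0 : P.comp (X + C (w : K)) ≠ 0 := by
        intro e
        rw [e, leadingCoeff_zero] at hlc
        exact hP0 (leadingCoeff_eq_zero.1 hlc.symm)
      refine natDegree_lt_natDegree h0 (lt_of_lt_of_eq (degree_sub_lt_left ?_ hc0 hlc) ?_)
      · rw [degree_eq_natDegree hc0, degree_eq_natDegree hP0, hd]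
      · rw [degree_eq_natDegree hc0, degree_eq_natDegree hP0, hd]
    rw [List.length_cons]
    omega

variable {p q : ℕ} [hp : Fact p.Prime] [hq : Fact q.Prime]

theorem mem_gam {D : ZMod p} :
    D ∈ gam p q ↔ D ≠ 0 ∧ ∀ j : ZMod p, j ≠ 0 → coef p q (D * j) = coef p q j := by
  simp [gam]

theorem gam_mul {D E : ZMod p} (hD : D ∈ gam p q) (hE : E ∈ gam p q) : D * E ∈ gam p q := by
  rw [mem_gam] at hD hE ⊢
  refine ⟨mul_ne_zero hD.1 hE.1, fun j hj => ?_⟩
  rw [mul_assoc, hD.2 _ (mul_ne_zero hE.1 hj), hE.2 j hj]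

theorem gam_inv {D : ZMod p} (hD : D ∈ gam p q) : D⁻¹ ∈ gam p q := by
  rw [mem_gam] at hD ⊢
  refine ⟨inv_ne_zero hD.1, fun j hj => ?_⟩
  rw [← hD.2 _ (mul_ne_zero (inv_ne_zero hD.1) hj), ← mul_assoc, mul_inv_cancel₀ hD.1, one_mul]

theorem gam_neg_one : (-1 : ZMod p) ∈ gam p q := by
  rw [mem_gam]
  refine ⟨neg_ne_zero.2 one_ne_zero, fun j hj => ?_⟩
  rw [neg_one_mul, coef, coef, ZMod.neg_val, if_neg hj, Nat.choose_symm (ZMod.val_lt j).le]

theorem gam_neg {D : ZMod p} (hD : D ∈ gam p q) : -D ∈ gam p q := by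
  have := gam_mul gam_neg_one hD
  rwa [neg_one_mul] at this

/-- Polynomial sums over the support. -/
theorem sum_supp_eval (P : (ZMod p)[X]) (hP : P.natDegree < (gam p q).card) :
    ∑ j ∈ supp q p, P.eval (j : ZMod p) = ((supp q p).card : ZMod p) * P.eval 0 := by
  classical
  set T : Finset (ZMod p) := univ.filter fun j => j ≠ 0 ∧ coef p q j ≠ 0 with hT
  have hmemT : ∀ {v : ℕ}, v < p → v ≠ 0 → ((v : ZMod p) ∈ T ↔ v ∈ supp q p) := by
    intro v hv hv0
    have hne : (v : ZMod p) ≠ 0 := fun e =>
      hv0 (Nat.eq_zero_of_dvd_of_lt ((ZMod.natCast_eq_zero_iff v p).1 e) hv)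
    simp [hT, hne, coef, ZMod.val_natCast_of_lt hv, mem_supp, ZMod.natCast_eq_zero_iff]
  have hsupp : supp q p = insert 0 (insert p (T.image ZMod.val)) := by
    ext v
    simp only [mem_insert, mem_image]
    constructor
    · intro hv
      by_cases h0 : v = 0
      · exact Or.inl h0
      by_cases hvp : v = p
      · exact Or.inr (Or.inl hvp)
      have hvlt : v < p := by
        have := (mem_filter.1 hv).1
        rw [mem_range] at this
        omega
      exact Or.inr (Or.inr ⟨(v : ZMod p), (hmemT hvlt h0).2 hv, ZMod.val_natCast_of_lt hvlt⟩)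
    · rintro (rfl | rfl | ⟨j, hj, rfl⟩)
      · rw [mem_supp]; simpa using hq.out.ne_one
      · rw [mem_supp]; simpa using hq.out.ne_one
      · have hj0 : j ≠ 0 := (mem_filter.1 hj).2.1
        refine (hmemT (ZMod.val_lt j) (fun e => hj0 ((ZMod.val_eq_zero j).1 e))).1 ?_
        rwa [ZMod.natCast_zmod_val]
  have h0T : (0 : ℕ) ∉ insert p (T.image ZMod.val) := by
    simp only [mem_insert, mem_image, not_or]
    refine ⟨hp.out.ne_zero.symm, ?_⟩
    rintro ⟨j, hj, e⟩
    exact (mem_filter.1 hj).2.1 ((ZMod.val_eq_zero j).1 e)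
  have hpT : p ∉ T.image ZMod.val := by
    simp only [mem_image]
    rintro ⟨j, -, e⟩
    exact (ZMod.val_lt j).ne e
  have hcard : (supp q p).card = T.card + 2 := by
    rw [hsupp, card_insert_of_notMem h0T, card_insert_of_notMem hpT,
      card_image_of_injective _ (ZMod.val_injective p)]
  have hsum : ∑ j ∈ T, P.eval j = (T.card : ZMod p) * P.eval 0 := by
    have hpow : ∀ k : ℕ, 1 ≤ k → k < (gam p q).card → ∑ j ∈ T, j ^ k = 0 := by
      intro k hk hlt
      obtain ⟨D, hD, hDk⟩ : ∃ D ∈ gam p q, D ^ k ≠ 1 := by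
        by_contra hcon
        simp only [not_exists, not_and, not_not] at hcon
        have hsub : gam p q ⊆ nthRootsFinset k (1 : ZMod p) := fun D hD => by
          rw [Polynomial.mem_nthRootsFinset hk]
          exact hcon D hD
        have h2 : (nthRootsFinset k (1 : ZMod p)).card ≤ k := by
          rw [Polynomial.nthRootsFinset_def]
          exact (Multiset.toFinset_card_le _).trans (Polynomial.card_nthRoots k 1)
        exact absurd ((card_le_card hsub).trans h2) (not_le.2 hlt)
      have hD0 := (mem_gam.1 hD).1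
      have hbij : ∑ j ∈ T, (D * j) ^ k = ∑ j ∈ T, j ^ k := by
        refine Finset.sum_bij' (fun j _ => D * j) (fun j _ => D⁻¹ * j) ?_ ?_ ?_ ?_ ?_
        · intro j hj
          rw [hT, mem_filter] at hj ⊢
          refine ⟨mem_univ _, mul_ne_zero hD0 hj.2.1, ?_⟩
          rw [(mem_gam.1 hD).2 j hj.2.1]; exact hj.2.2
        · intro j hj
          rw [hT, mem_filter] at hj ⊢
          refine ⟨mem_univ _, mul_ne_zero (inv_ne_zero hD0) hj.2.1, ?_⟩
          rw [(mem_gam.1 (gam_inv hD)).2 j hj.2.1]; exact hj.2.2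
        · intro j _; rw [← mul_assoc, inv_mul_cancel₀ hD0, one_mul]
        · intro j _; rw [← mul_assoc, mul_inv_cancel₀ hD0, one_mul]
        · intro j _; rfl
      simp only [mul_pow, ← Finset.mul_sum] at hbij
      have : (D ^ k - 1) * ∑ j ∈ T, j ^ k = 0 := by rw [sub_mul, one_mul, hbij, sub_self]
      exact (mul_eq_zero.1 this).resolve_left (sub_ne_zero.2 hDk)
    simp only [eval_eq_sum_range]
    rw [Finset.sum_comm, Finset.mul_sum]
    refine Finset.sum_congr rfl fun k hk => ?_
    rw [← Finset.mul_sum]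
    rcases Nat.eq_zero_or_pos k with rfl | hk1
    · simp [mul_comm]
    · rw [mem_range] at hk
      rw [hpow k hk1 (lt_of_le_of_lt (Nat.lt_succ_iff.1 hk) hP), mul_zero, zero_pow hk1.ne',
        mul_zero, mul_zero]
  rw [hcard, hsupp, sum_insert h0T, sum_insert hpT,
    sum_image fun a _ b _ h => ZMod.val_injective p h]
  simp only [ZMod.natCast_zmod_val, ZMod.natCast_self, Nat.cast_zero]
  rw [hsum]
  push_cast
  ring

theorem gam_one : (1 : ZMod p) ∈ gam p q := by
  rw [mem_gam]
  exact ⟨one_ne_zero, fun j _ => by rw [one_mul]⟩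

/-- `a.choose x` modulo `q`, as a function of `x` modulo `p`. -/
def cf (p q a : ℕ) (x : ZMod p) : ZMod q := (a.choose x.val : ZMod q)

theorem cf_zero {a : ℕ} {x : ZMod p} (h : a < x.val) : cf p q a x = 0 := by
  rw [cf, Nat.choose_eq_zero_of_lt h, Nat.cast_zero]

theorem choose_pow_mul {q : ℕ} [hq : Fact q.Prime] (a m v : ℕ) :
    ((a * q ^ m).choose v : ZMod q) = if q ^ m ∣ v then (a.choose (v / q ^ m) : ZMod q) else 0 := by
  induction m generalizing v with
  | zero => simp
  | succ m ih =>
    have h := (ZMod.natCast_eq_natCast_iff _ _ q).2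
      (Choose.choose_modEq_choose_mod_mul_choose_div_nat (n := a * q ^ (m + 1)) (k := v) (p := q))
    have e1 : a * q ^ (m + 1) % q = 0 :=
      Nat.mod_eq_zero_of_dvd (Dvd.intro (a * q ^ m) (by ring))
    have e2 : a * q ^ (m + 1) / q = a * q ^ m := by
      rw [pow_succ, ← mul_assoc, Nat.mul_div_cancel _ hq.out.pos]
    rw [e1, e2] at h
    rw [h]
    push_cast
    rw [ih]
    by_cases hv : v % q = 0
    · obtain ⟨v', rfl⟩ := Nat.dvd_of_mod_eq_zero hv
      rw [Nat.mul_mod_right, Nat.choose_self, Nat.cast_one, one_mul,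
        Nat.mul_div_cancel_left _ hq.out.pos, pow_succ']
      simp only [Nat.mul_dvd_mul_iff_left hq.out.pos, Nat.mul_div_mul_left _ _ hq.out.pos]
    · rw [Nat.choose_eq_zero_of_lt (Nat.pos_of_ne_zero hv), Nat.cast_zero, zero_mul, if_neg]
      intro hd
      exact hv (Nat.mod_eq_zero_of_dvd ((Dvd.intro_left _ (pow_succ q m).symm).trans hd))

/-- The case `p + 1 = a * q ^ m`. -/
theorem gam_special {a Q : ℕ} (hQ : ∃ m, 1 ≤ m ∧ Q = q ^ m) (hpQ : p + 1 = a * Q) (ha2 : 2 ≤ a)
    (haq : a < q) (D : ZMod p) (hD : D ∈ gam p q) : D = 1 ∨ D = -1 := by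
  obtain ⟨m, hm, hQm⟩ := hQ
  have hQq : q ≤ Q := hQm ▸ Nat.le_self_pow (by omega) q
  have haQ : a * a + a ≤ p + 1 := by
    rw [hpQ, ← Nat.mul_succ]
    exact Nat.mul_le_mul_left a (by omega)
  have h2a : 2 * a < p := by nlinarith
  have haQ1 : (a : ZMod p) * (Q : ZMod p) = 1 := by
    rw [← Nat.cast_mul, ← hpQ, Nat.cast_add, ZMod.natCast_self, zero_add, Nat.cast_one]
  have hp1q : ((p : ℕ) : ZMod q) + 1 = 0 := by
    rw [← Nat.cast_add_one, hpQ, hQm, ZMod.natCast_eq_zero_iff]
    exact dvd_mul_of_dvd_right (dvd_pow_self q (by omega)) a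
  set φ : ZMod p → ZMod q := fun j => if j = 0 then 2 else coef p q j
  have hφ : ∀ E ∈ gam p q, ∀ j, φ (E * j) = φ j := by
    intro E hE j
    obtain ⟨hE0, hE⟩ := mem_gam.1 hE
    by_cases hj : j = 0
    · simp [hj]
    · simp only [φ, if_neg hj, if_neg (mul_ne_zero hE0 hj), hE j hj]
  have hG : ∀ j : ZMod p, φ j + φ (j - 1) = cf p q a ((a : ZMod p) * j) := by
    intro j
    obtain ⟨v, hv, rfl⟩ : ∃ v : ℕ, v < p ∧ (v : ZMod p) = j :=
      ⟨j.val, ZMod.val_lt j, ZMod.natCast_zmod_val j⟩
    have hsmall : ∀ w : ℕ, w < p → w ≠ 0 → (w : ZMod p) ≠ 0 := fun w hw hw0 e =>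
      hw0 (Nat.eq_zero_of_dvd_of_lt ((ZMod.natCast_eq_zero_iff w p).1 e) hw)
    rcases eq_or_ne v 0 with rfl | hv0
    · have h1 : ((0 : ℕ) : ZMod p) - 1 = -1 := by simp
      simp only [φ, cf, Nat.cast_zero, mul_zero, ZMod.val_zero, Nat.choose_zero_right, Nat.cast_one,
        if_pos, zero_sub, neg_eq_zero, one_ne_zero, if_false]
      rw [coef, ZMod.neg_val, if_neg one_ne_zero, ZMod.val_one,
        Nat.choose_symm (show 1 ≤ p from hp.out.one_lt.le), Nat.choose_one_right]
      linear_combination hp1q
    rcases eq_or_ne v 1 with rfl | hv1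
    · simp only [φ, cf, Nat.cast_one, sub_self, if_pos, one_ne_zero, if_false, mul_one]
      rw [coef, ZMod.val_one, Nat.choose_one_right, ZMod.val_natCast_of_lt (by omega),
        Nat.choose_self, Nat.cast_one]
      linear_combination hp1q
    have hne := hsmall v hv hv0
    have hne1 : (v : ZMod p) - 1 ≠ 0 := by
      rw [show (v : ZMod p) - 1 = ((v - 1 : ℕ) : ZMod p) by rw [Nat.cast_sub (by omega)]; simp]
      exact hsmall _ (by omega) (by omega)
    simp only [φ, if_neg hne, if_neg hne1, coef, cf]
    rw [show (v : ZMod p) - 1 = ((v - 1 : ℕ) : ZMod p) by rw [Nat.cast_sub (by omega)]; simp,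
      ZMod.val_natCast_of_lt hv, ZMod.val_natCast_of_lt (show v - 1 < p by omega), ← Nat.cast_add,
      show p.choose v + p.choose (v - 1) = (p + 1).choose v by
        obtain ⟨w, rfl⟩ : ∃ w, v = w + 1 := ⟨v - 1, by omega⟩
        rw [Nat.choose_succ_succ', Nat.add_sub_cancel, add_comm],
      hpQ, hQm, choose_pow_mul, ← hQm]
    by_cases hdvd : Q ∣ v
    · obtain ⟨k, rfl⟩ := hdvd
      rw [if_pos (dvd_mul_right _ _), Nat.mul_div_cancel_left _ (by omega)]
      have hk : k < p := lt_of_le_of_lt (Nat.le_mul_of_pos_left k (by omega)) hv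
      rw [Nat.cast_mul, ← mul_assoc, haQ1, one_mul, ZMod.val_natCast_of_lt hk]
    · rw [if_neg hdvd]
      refine (cf_zero (q := q) ?_).symm
      by_contra hle
      set k := ((a : ZMod p) * (v : ZMod p)).val with hk
      have h1 : ((Q * k : ℕ) : ZMod p) = v := by
        rw [Nat.cast_mul, hk, ZMod.natCast_zmod_val, ← mul_assoc, mul_comm (Q : ZMod p), haQ1,
          one_mul]
      have hQk : Q * k ≤ p + 1 := by
        rw [hpQ, mul_comm a]
        exact Nat.mul_le_mul_left _ (not_lt.1 hle)
      rcases lt_or_ge (Q * k) p with hlt | hge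
      · have := congrArg ZMod.val h1
        rw [ZMod.val_natCast_of_lt hlt, ZMod.val_natCast_of_lt hv] at this
        exact hdvd ⟨k, this.symm⟩
      · have hQkp : Q * k = p + 1 := by
          rcases (show Q * k = p ∨ Q * k = p + 1 by omega) with h | h
          · exfalso
            rw [h, ZMod.natCast_self] at h1
            exact hne h1.symm
          · exact h
        rw [hQkp, Nat.cast_add, ZMod.natCast_self, zero_add, Nat.cast_one] at h1
        have := congrArg ZMod.val h1
        rw [ZMod.val_one, ZMod.val_natCast_of_lt hv] at this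
        exact hv1 this.symm
  -- the equation at `Q`
  have hEQ : ∀ E ∈ gam p q,
      (a : ZMod q) + cf p q a (1 - a * E) = cf p q a E⁻¹ + cf p q a ((1 - a) * E⁻¹) := by
    intro E hE
    have hE0 := (mem_gam.1 hE).1
    have hi : ∀ j, φ (E⁻¹ * j) = φ j := hφ _ (gam_inv hE)
    have ha : cf p q a 1 = (a : ZMod q) := by rw [cf, ZMod.val_one, Nat.choose_one_right]
    rw [← ha]
    have l1 : cf p q a 1 = φ (Q : ZMod p) + φ ((Q : ZMod p) - 1) := by rw [hG, haQ1]
    have l2 : cf p q a (1 - a * E) = φ ((Q : ZMod p) - E) + φ ((Q : ZMod p) - E - 1) := by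
      rw [hG, mul_sub, haQ1]
    have r1 : cf p q a E⁻¹ = φ (Q : ZMod p) + φ ((Q : ZMod p) - E) := by
      rw [← hi ((Q : ZMod p)), ← hi ((Q : ZMod p) - E),
        show E⁻¹ * ((Q : ZMod p) - E) = E⁻¹ * (Q : ZMod p) - 1 by
          rw [mul_sub, inv_mul_cancel₀ hE0],
        hG, mul_left_comm, haQ1, mul_one]
    have r2 : cf p q a ((1 - a) * E⁻¹) = φ ((Q : ZMod p) - 1) + φ ((Q : ZMod p) - E - 1) := by
      rw [← hi ((Q : ZMod p) - 1), ← hi ((Q : ZMod p) - E - 1),
        show E⁻¹ * ((Q : ZMod p) - E - 1) = E⁻¹ * ((Q : ZMod p) - 1) - 1 by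
          rw [sub_right_comm, mul_sub, inv_mul_cancel₀ hE0],
        hG]
      congr 1
      rw [mul_left_comm, mul_sub, haQ1, mul_one, mul_comm]
    rw [l1, l2, r1, r2]
    ring
  have haq0 : (a : ZMod q) ≠ 0 := fun e =>
    absurd (Nat.le_of_dvd (by omega) ((ZMod.natCast_eq_zero_iff a q).1 e)) (by omega)
  have hone : ∀ {s : ℕ}, s ≤ p + 1 → 2 ≤ s → (s : ZMod p) = 1 → s = p + 1 := by
    intro s hs hs2 e
    rcases (show s < p ∨ s = p ∨ s = p + 1 by omega) with h | h | h
    · have := congrArg ZMod.val e
      rw [ZMod.val_natCast_of_lt h, ZMod.val_one] at this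
      omega
    · rw [h, ZMod.natCast_self] at e
      exact absurd e zero_ne_one
    · exact h
  -- multipliers with a small residue are trivial
  have hsmallD : ∀ E ∈ gam p q, E.val ≤ a → E = 1 := by
    intro E hE hle
    have hE0 := (mem_gam.1 hE).1
    by_contra hE1
    set j := E.val with hj
    have hEj : E = (j : ZMod p) := (ZMod.natCast_zmod_val E).symm
    have hj2 : 2 ≤ j := by
      rcases (show j = 0 ∨ j = 1 ∨ 2 ≤ j by omega) with h | h | h
      · exact absurd ((ZMod.val_eq_zero E).1 h) hE0
      · exact absurd (by rw [hEj, h, Nat.cast_one]) hE1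
      · exact h
    have hr1 : cf p q a E⁻¹ = 0 := by
      refine cf_zero ?_
      by_contra hle'
      set k := (E⁻¹).val with hk
      have e : ((j * k : ℕ) : ZMod p) = 1 := by
        rw [Nat.cast_mul, ← hEj, hk, ZMod.natCast_zmod_val, mul_inv_cancel₀ hE0]
      have hjk : j * k ≤ a * a := Nat.mul_le_mul hle (not_lt.1 hle')
      have := congrArg ZMod.val e
      rw [ZMod.val_natCast_of_lt (by omega), ZMod.val_one] at this
      nlinarith [Nat.eq_one_of_mul_eq_one_right this]
    have heq := hEQ E hE
    rw [hr1, zero_add] at heq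
    by_cases hexc : j = a ∧ Q = a + 1
    · obtain ⟨hja, hQa⟩ := hexc
      have hqa : q = a + 1 := by omega
      have haa : a * a + a = p + 1 := by rw [hpQ, hQa]; ring
      have haa' : (a : ZMod p) * a + a = 1 := by
        rw [← Nat.cast_mul, ← Nat.cast_add, haa, Nat.cast_add, ZMod.natCast_self, zero_add,
          Nat.cast_one]
      have e1 : (1 : ZMod p) - a * E = (a : ZMod p) := by
        rw [hEj, hja]; linear_combination -haa'
      have e2 : (1 - (a : ZMod p)) * E⁻¹ = (a : ZMod p) := by
        rw [show (1 : ZMod p) - a = a * E by rw [hEj, hja]; linear_combination -haa', mul_assoc,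
          mul_inv_cancel₀ hE0, mul_one]
      rw [e1, e2, cf, ZMod.val_natCast_of_lt (by omega), Nat.choose_self, Nat.cast_one] at heq
      have hq0 : ((a : ℕ) : ZMod q) + 1 = 0 := by
        rw [← Nat.cast_add_one, ← hqa, ZMod.natCast_self]
      rw [hq0] at heq
      exact zero_ne_one heq
    have hr2 : cf p q a ((1 - a) * E⁻¹) = 0 := by
      refine cf_zero ?_
      by_contra hle'
      set k := ((1 - (a : ZMod p)) * E⁻¹).val with hk
      have hle'' := not_lt.1 hle'
      have hjk : j * k ≤ a * a := Nat.mul_le_mul hle hle''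
      have e : ((j * k + a : ℕ) : ZMod p) = 1 := by
        rw [Nat.cast_add, Nat.cast_mul, ← hEj, hk, ZMod.natCast_zmod_val, mul_left_comm,
          mul_inv_cancel₀ hE0, mul_one, sub_add_cancel]
      have h := hone (by omega) (by omega) e
      have hjk2 : a * a ≤ j * k := by omega
      have hja : j = a := by
        rcases Nat.lt_or_ge j a with h' | h'
        · nlinarith
        · omega
      exact hexc ⟨hja, by nlinarith⟩
    have hl : cf p q a (1 - a * E) = 0 := by
      refine cf_zero ?_
      by_contra hle'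
      set k := ((1 : ZMod p) - a * E).val with hk
      have hle'' := not_lt.1 hle'
      have hjk : a * j ≤ a * a := Nat.mul_le_mul_left a hle
      have e : ((a * j + k : ℕ) : ZMod p) = 1 := by
        rw [Nat.cast_add, Nat.cast_mul, ← hEj, hk, ZMod.natCast_zmod_val, add_sub_cancel]
      have hjk' : 4 ≤ a * j := by nlinarith
      have h := hone (by omega) (by omega) e
      have hja : j = a := by
        rcases Nat.lt_or_ge j a with h' | h'
        · exfalso
          have : a * (j + 1) ≤ a * a := Nat.mul_le_mul_left a h'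
          rw [mul_add, mul_one] at this
          nlinarith
        · omega
      exact hexc ⟨hja, by nlinarith⟩
    rw [hr2, hl, add_zero] at heq
    exact haq0 heq
  by_contra hcon
  simp only [not_or] at hcon
  have hneg : ∀ E ∈ gam p q, E ≠ -1 → a < (-E).val := fun E hE hE1 => by
    by_contra hle
    exact hE1 (neg_eq_iff_eq_neg.1 (hsmallD _ (gam_neg hE) (not_lt.1 hle)))
  have hpos : ∀ E ∈ gam p q, E ≠ 1 → a < E.val := fun E hE hE1 => by
    by_contra hle
    exact hE1 (hsmallD _ hE (not_lt.1 hle))
  -- one of `±E` times `a` is small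
  have hstep : ∀ E ∈ gam p q, E ≠ 1 → E ≠ -1 → ∃ ε : ZMod p, (ε = 1 ∨ ε = -1) ∧ ∃ i : ℕ, 1 ≤ i ∧
      i < a ∧ (a : ZMod p) * (ε * E) = i := by
    intro E hE h1 h2
    have hE0 := (mem_gam.1 hE).1
    have key : ∀ F ∈ gam p q, F ≠ 1 → F ≠ -1 → a < ((1 - (a : ZMod p)) * F⁻¹).val →
        ∃ i : ℕ, 1 ≤ i ∧ i < a ∧ (a : ZMod p) * (-F) = i := by
      intro F hF f1 f2 hr
      have hF0 := (mem_gam.1 hF).1
      have heq := hEQ F hF
      rw [cf_zero hr, cf_zero (hpos _ (gam_inv hF) fun e => f1 (inv_eq_one.1 e)), add_zero] at heq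
      have hle : ((1 : ZMod p) - a * F).val ≤ a := by
        by_contra hgt
        rw [cf_zero (not_le.1 hgt), add_zero] at heq
        exact haq0 heq
      set k := ((1 : ZMod p) - a * F).val with hk
      have e : (k : ZMod p) = 1 - a * F := ZMod.natCast_zmod_val _
      rcases (show k = 0 ∨ k = 1 ∨ 2 ≤ k by omega) with h | h | h
      · exfalso
        rw [h, Nat.cast_zero] at e
        have hFi : F⁻¹ = (a : ZMod p) := (eq_inv_of_mul_eq_one_left (sub_eq_zero.1 e.symm).symm).symm
        have := hpos _ (gam_inv hF) fun e' => f1 (inv_eq_one.1 e')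
        rw [hFi, ZMod.val_natCast_of_lt (by omega)] at this
        omega
      · exfalso
        rw [h, Nat.cast_one] at e
        have : (a : ZMod p) * F = 0 := by linear_combination e
        rcases mul_eq_zero.1 this with h' | h'
        · have := congrArg ZMod.val h'
          rw [ZMod.val_natCast_of_lt (by omega), ZMod.val_zero] at this
          omega
        · exact hF0 h'
      · refine ⟨k - 1, by omega, by omega, ?_⟩
        rw [Nat.cast_sub (by omega), e, Nat.cast_one]
        ring
    by_cases hr : a < ((1 - (a : ZMod p)) * E⁻¹).val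
    · obtain ⟨i, i1, i2, i3⟩ := key E hE h1 h2 hr
      exact ⟨-1, Or.inr rfl, i, i1, i2, by rw [neg_one_mul]; exact i3⟩
    · have hx0 : (1 - (a : ZMod p)) * E⁻¹ ≠ 0 := by
        refine mul_ne_zero (sub_ne_zero.2 fun e => ?_) (inv_ne_zero hE0)
        have := congrArg ZMod.val e
        rw [ZMod.val_one, ZMod.val_natCast_of_lt (by omega)] at this
        omega
      obtain ⟨i, i1, i2, i3⟩ := key (-E) (gam_neg hE) (fun e => h2 (neg_eq_iff_eq_neg.1 e))
        (fun e => h1 (neg_inj.1 e)) (by
          rw [inv_neg, mul_neg, ZMod.neg_val, if_neg hx0]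
          have := ZMod.val_lt ((1 - (a : ZMod p)) * E⁻¹)
          omega)
      exact ⟨1, Or.inl rfl, i, i1, i2, by rw [one_mul]; rw [neg_neg] at i3; exact i3⟩
  obtain ⟨ε, hε, i, i1, i2, hi⟩ := hstep D hD hcon.1 hcon.2
  -- `F = ± D` with `a * F = i`
  set F := ε * D with hF
  have hFg : F ∈ gam p q := by
    rcases hε with rfl | rfl
    · rw [hF, one_mul]; exact hD
    · rw [hF, neg_one_mul]; exact gam_neg hD
  have hF1 : F ≠ 1 ∧ F ≠ -1 := by
    rcases hε with rfl | rfl
    · rw [hF, one_mul]; exact hcon
    · rw [hF, neg_one_mul]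
      exact ⟨fun e => hcon.2 (neg_eq_iff_eq_neg.1 e), fun e => hcon.1 (neg_inj.1 e)⟩
  have hF0 := (mem_gam.1 hFg).1
  have hFi1 : F⁻¹ ≠ 1 ∧ F⁻¹ ≠ -1 :=
    ⟨fun e => hF1.1 (inv_eq_one.1 e), fun e => hF1.2 (by rw [← inv_inv F, e, inv_neg, inv_one])⟩
  obtain ⟨δ, hδ, i', j1, j2, hj⟩ := hstep F⁻¹ (gam_inv hFg) hFi1.1 hFi1.2
  rcases hδ with rfl | rfl
  · rw [one_mul] at hj
    have e : ((i * i' : ℕ) : ZMod p) = ((a * a : ℕ) : ZMod p) := by
      push_cast
      rw [← hi, ← hj, mul_mul_mul_comm, mul_inv_cancel₀ hF0, mul_one]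
    have hlt : i * i' < a * a := by nlinarith
    have := congrArg ZMod.val e
    rw [ZMod.val_natCast_of_lt (by omega), ZMod.val_natCast_of_lt (by omega)] at this
    omega
  rw [neg_one_mul, mul_neg] at hj
  have heq := hEQ F hFg
  have hr : cf p q a ((1 - (a : ZMod p)) * F⁻¹) = 0 := by
    refine cf_zero ?_
    by_contra hle'
    set k := ((1 - (a : ZMod p)) * F⁻¹).val with hk
    have e : (k : ZMod p) = F⁻¹ + i' := by
      rw [hk, ZMod.natCast_zmod_val, ← hj]; ring
    rcases Nat.lt_or_ge k i' with h | h
    · have e' : ((i' - k : ℕ) : ZMod p) = -F⁻¹ := by rw [Nat.cast_sub h.le, e]; ring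
      have hv := hneg _ (gam_inv hFg) hFi1.2
      rw [← e', ZMod.val_natCast_of_lt (by omega)] at hv
      omega
    · have e' : ((k - i' : ℕ) : ZMod p) = F⁻¹ := by rw [Nat.cast_sub h, e]; ring
      have hv := hpos _ (gam_inv hFg) hFi1.1
      rw [← e', ZMod.val_natCast_of_lt (by omega)] at hv
      omega
  rw [cf_zero (hpos _ (gam_inv hFg) hFi1.1), hr, add_zero] at heq
  rcases (show i = 1 ∨ 2 ≤ i by omega) with rfl | hi2
  · rw [Nat.cast_one] at hi
    have hv := hpos _ (gam_inv hFg) hFi1.1
    rw [← eq_inv_of_mul_eq_one_left hi, ZMod.val_natCast_of_lt (by omega)] at hv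
    omega
  · rw [cf_zero (show a < ((1 : ZMod p) - a * F).val by
      rw [hi, show (1 : ZMod p) - (i : ZMod p) = -((i - 1 : ℕ) : ZMod p) by
        rw [Nat.cast_sub (by omega)]; simp, ZMod.neg_val, if_neg, ZMod.val_natCast_of_lt (by omega)]
      · omega
      · intro e'
        have := congrArg ZMod.val e'
        rw [ZMod.val_natCast_of_lt (by omega), ZMod.val_zero] at this
        omega), add_zero] at heq
    exact haq0 heq

/-- The multipliers are too few. -/
theorem gam_small (hq2 : q ≠ 2) (hqp : q < p) (hp1 : p % q ≠ 1)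
    (hbig : p ≤ q * ((gam p q).card - 1)) : False := by
  classical
  set g := (gam p q).card with hg
  have hp0 : p % q ≠ 0 := fun e =>
    hqp.ne ((Nat.prime_dvd_prime_iff_eq hq.out hp.out).1 (Nat.dvd_of_mod_eq_zero e))
  have hp2 : 2 ≤ p % q := by omega
  have hqlt := Nat.mod_lt p hq.out.pos
  have hq3 : 3 ≤ q := by have := hq.out.two_le; omega
  have hg3 : 3 ≤ g := by
    by_contra h
    have : q * (g - 1) ≤ q * 1 := Nat.mul_le_mul_left q (by omega)
    omega
  obtain ⟨D, hD, hD1, hD2⟩ : ∃ D ∈ gam p q, D ≠ 1 ∧ D ≠ -1 := by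
    by_contra hcon
    simp only [not_exists, not_and, not_not] at hcon
    have hsub : gam p q ⊆ {1, -1} := fun D hD => by
      by_cases h : D = 1
      · simp [h]
      · simp [hcon D hD h]
    have := (card_le_card hsub).trans (card_le_two (a := (1 : ZMod p)) (b := -1))
    omega
  -- it suffices that all coefficients are nonzero
  have hfull : (supp q p).card = p + 1 → False := by
    intro hN
    obtain ⟨a, m, ha1, ha2, he⟩ := full_supp p hN
    have hoddp : p % 2 = 1 := (hp.out.eq_two_or_odd).resolve_left (by omega)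
    have hoddQ : ∀ k, q ^ k % 2 = 1 := fun k =>
      Nat.odd_iff.1 ((hq.out.odd_of_ne_two hq2).pow)
    have ha3 : a ≠ q := fun e => by
      have := hoddQ (m + 1)
      rw [e] at he
      rw [pow_succ', ← he] at this
      omega
    have ha4 : a ≠ 1 := fun e => by
      have := hoddQ m
      rw [e, one_mul] at he
      omega
    have hm : 1 ≤ m := by
      rcases m with _ | m
      · rw [pow_zero, mul_one] at he; omega
      · omega
    rcases gam_special ⟨m, hm, rfl⟩ he (by omega) (by omega) D hD with h | h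
    · exact hD1 h
    · exact hD2 h
  -- the second moment vanishes
  have hM2 : ∑ j ∈ supp q p, (j : ZMod p) ^ 2 = 0 := by
    have := sum_supp_eval (p := p) (q := q) (X ^ 2) (by rw [natDegree_X_pow]; omega)
    simpa using this
  have hb0 : 0 < p / q := Nat.div_pos hqp.le hq.out.pos
  have hpb := Nat.mod_add_div p q
  obtain ⟨W', hW'⟩ := exists_weights (q := q) (p / q)
  have hW := weights_step hW' (by omega : p ≠ 0)
  rw [if_neg hp0] at hW
  set W := ((1, p % q) :: W'.map fun wd => (q * wd.1, wd.2)) with hWdef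
  have hlen : W.length = W'.length + 1 := by simp [hWdef]
  rcases W' with _ | ⟨⟨w, d⟩, _ | ⟨wd2, W''⟩⟩
  · have := hW'.total
    simp at this
    omega
  · -- two digits
    have htot : d * w = p / q := by simpa using hW'.total
    have hd := hW'.digit (w, d) List.mem_cons_self
    simp only at hd
    have hw : 1 ≤ w := by rcases w with _ | w <;> [simp at htot; skip] <;> omega
    set R := q * w with hR
    set e0 := p % q with he0
    have hN : (supp q p).card = (e0 + 1) * (d + 1) := by
      rw [hW.card]; simp [hWdef]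
    have hpe : e0 + d * R = p := by
      rw [hR, mul_left_comm, htot]; exact hpb
    have hsum := hW.sum (ZMod p) inferInstance fun j => (j : ZMod p) ^ 2
    rw [hM2] at hsum
    simp only [hWdef, List.map_cons, List.map_nil, boxSum, mul_one, add_zero] at hsum
    push_cast at hsum
    simp only [add_sq, Finset.sum_add_distrib, Finset.sum_const, card_range, nsmul_eq_mul,
      mul_pow, ← Finset.mul_sum, ← Finset.sum_mul] at hsum
    obtain ⟨a1, a2⟩ := six_sum (R := ZMod p) e0
    obtain ⟨b1, b2⟩ := six_sum (R := ZMod p) d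
    have hne : ∀ k : ℕ, k < p → k ≠ 0 → (k : ZMod p) ≠ 0 := fun k hk hk0 e =>
      hk0 (Nat.eq_zero_of_dvd_of_lt ((ZMod.natCast_eq_zero_iff k p).1 e) hk)
    have hrel : (e0 : ZMod p) + (d : ZMod p) * (R : ZMod p) = 0 := by
      rw [← Nat.cast_mul, ← Nat.cast_add, hpe, ZMod.natCast_self]
    have hR' : (R : ZMod p) = (q : ZMod p) * (w : ZMod p) := by rw [hR, Nat.cast_mul]
    have key : ((e0 + 1 : ℕ) : ZMod p) * ((d + 1 : ℕ) : ZMod p) *
        ((e0 : ZMod p) * (2 * e0 + 1) + 3 * (R : ZMod p) * e0 * d +
          (R : ZMod p) ^ 2 * d * (2 * d + 1)) = 0 := by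
      push_cast at hsum ⊢
      rw [hR']
      linear_combination (6 : ZMod p) * hsum.symm
        - ((d : ZMod p) + 1) * a2
        - 6 * ((q : ZMod p) * w) * (∑ f ∈ range (d + 1), (f : ZMod p)) * a1
        - 3 * ((q : ZMod p) * w) * ((e0 : ZMod p) * ((e0 : ZMod p) + 1)) * b1
        - ((q : ZMod p) * w) ^ 2 * ((e0 : ZMod p) + 1) * b2
    have hBk := (mul_eq_zero.1 key).resolve_left
      (mul_ne_zero (hne _ (by omega) (by omega)) (hne _ (by omega) (by omega)))
    have hz : (e0 : ZMod p) * ((d : ZMod p) * ((e0 : ZMod p) + 1) + e0) = 0 := by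
      linear_combination (d : ZMod p) * hBk -
        (2 * (d : ZMod p) * ((d : ZMod p) * R) + (d : ZMod p) * R + (d : ZMod p) * e0 - e0) * hrel
    have hz2 := (mul_eq_zero.1 hz).resolve_left (hne _ (by omega) (by omega))
    have hdvd : p ∣ d * (e0 + 1) + e0 := (ZMod.natCast_eq_zero_iff _ p).1 (by push_cast; exact hz2)
    have hqR : q ≤ R := hR ▸ Nat.le_mul_of_pos_right q hw
    have hRle : d * (e0 + 1) ≤ d * R := Nat.mul_le_mul_left d (by omega)
    have heq : d * (e0 + 1) + e0 = p := le_antisymm (by omega) (Nat.le_of_dvd (by omega) hdvd)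
    refine hfull ?_
    rw [hN, ← heq]
    ring
  · -- at least three digits
    set r := W.length with hr
    have hr3 : 3 ≤ r := by rw [hlen]; simp
    have hpow : q ^ (r - 1) ≤ p := (hW.pow (by omega)).2
    have hN := hW.card
    by_cases hcase : 2 ^ (r + 1) ≤ g + r
    · set wL := W.map Prod.fst with hwL
      set aL := W.map (fun wd => (wd.2 + 1) * wd.1) with haL
      set N := (supp q p).card with hNdef
      have hE : ∀ P : (ZMod p)[X], P.natDegree < g + r →
          diff aL (fun x : ℕ => P.eval (x : ZMod p)) 0 =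
            (N : ZMod p) * diff wL (fun x : ℕ => P.eval (x : ZMod p)) 0 := by
        intro P hP
        obtain ⟨Q', hQ', hev⟩ := diff_poly (K := ZMod p) wL P
        have hdeg : Q'.natDegree < g := by
          rcases hQ' with rfl | h
          · rw [natDegree_zero]; omega
          · rw [hwL, List.length_map, ← hr] at h; omega
        rw [haL, ← boxSum_diff, ← hwL, ← hW.sum _ inferInstance, hev 0, Nat.cast_zero,
          ← sum_supp_eval Q' hdeg]
        exact Finset.sum_congr rfl fun j _ => hev j
      have hdig := hW.digit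
      have hN0 : (N : ZMod p) ≠ 0 := by
        rw [Ne, ZMod.natCast_eq_zero_iff, hN]
        intro h
        obtain ⟨x, hx, hx'⟩ := (Prime.dvd_prod_iff (Nat.prime_iff.1 hp.out)).1 h
        obtain ⟨wd, hwd, rfl⟩ := List.mem_map.1 hx
        have := Nat.le_of_dvd (Nat.succ_pos _) hx'
        have := (hdig wd hwd).2
        omega
      have hcast : ((subs wL).map fun x : ℕ => (x : ZMod p)).Nodup := by
        refine hW.nodup.map_on fun x hx y hy e => ?_
        have hx' := (le_of_mem_subs _ x hx).trans_lt (hW.strict hp2)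
        have hy' := (le_of_mem_subs _ y hy).trans_lt (hW.strict hp2)
        have := congrArg ZMod.val e
        rwa [ZMod.val_natCast_of_lt hx', ZMod.val_natCast_of_lt hy'] at this
      set A := ((subs aL).map fun x : ℕ => (x : ZMod p)).toFinset with hA
      set B := ((subs wL).map fun x : ℕ => (x : ZMod p)).toFinset with hB
      have hAle : A.card ≤ 2 ^ r := by
        refine (List.toFinset_card_le _).trans ?_
        rw [List.length_map, subs_length, haL, List.length_map]
      have hBeq : B.card = 2 ^ r := by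
        rw [hB, List.toFinset_card_of_nodup hcast, List.length_map, subs_length, hwL,
          List.length_map]
      -- a polynomial vanishing on all points but one
      have hP : ∀ v ∈ B, ∃ P : (ZMod p)[X], P.natDegree < g + r ∧ P.eval v ≠ 0 ∧
          ∀ x ∈ A ∪ B, x ≠ v → P.eval x = 0 := by
        intro v hv
        refine ⟨∏ x ∈ (A ∪ B).erase v, (X - C x), ?_, ?_, ?_⟩
        · rw [natDegree_finsetProd_X_sub_C_eq_card, card_erase_of_mem (mem_union_right A hv)]
          have := card_union_le A B
          have := Nat.two_pow_pos r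
          rw [pow_succ] at hcase
          omega
        · rw [eval_prod, Finset.prod_ne_zero_iff]
          intro x hx
          rw [eval_sub, eval_X, eval_C, sub_ne_zero]
          exact (ne_of_mem_erase hx).symm
        · intro x hx hxv
          rw [eval_prod]
          exact Finset.prod_eq_zero (mem_erase.2 ⟨hxv, hx⟩) (by simp)
      have hmemA : ∀ x ∈ subs aL, (x : ZMod p) ∈ A := fun x hx => by
        rw [hA, List.mem_toFinset]; exact List.mem_map.2 ⟨x, hx, rfl⟩
      have hmemB : ∀ x ∈ subs wL, (x : ZMod p) ∈ B := fun x hx => by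
        rw [hB, List.mem_toFinset]; exact List.mem_map.2 ⟨x, hx, rfl⟩
      have hsing : ∀ u ∈ subs wL, ∀ P : (ZMod p)[X],
          (∀ x ∈ A ∪ B, x ≠ (u : ZMod p) → P.eval x = 0) →
          diff wL (fun x : ℕ => P.eval (x : ZMod p)) 0 = P.eval (u : ZMod p) ∨
          diff wL (fun x : ℕ => P.eval (x : ZMod p)) 0 = -P.eval (u : ZMod p) := by
        intro u hu P hv
        exact diff_eq_single wL (fun x : ℕ => P.eval (x : ZMod p)) hW.nodup u hu fun x hx hxu =>
          hv _ (mem_union_right A (hmemB x hx))
            fun e => hxu (List.inj_on_of_nodup_map hcast hx hu e)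
      have hsub : B ⊆ A := by
        intro v hv
        by_contra hvA
        obtain ⟨u, hu, rfl⟩ := List.mem_map.1 (List.mem_toFinset.1 hv)
        obtain ⟨P, hPd, hPv, hP0⟩ := hP _ hv
        have h0 : diff aL (fun x : ℕ => P.eval (x : ZMod p)) 0 = 0 :=
          diff_eq_zero aL _ fun x hx => hP0 _ (mem_union_left B (hmemA x hx))
            fun e => hvA (e ▸ hmemA x hx)
        have := hE P hPd
        rw [h0] at this
        rcases hsing u hu P hP0 with h | h <;> rw [h] at this
        · exact hPv ((mul_eq_zero.1 this.symm).resolve_left hN0)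
        · exact hPv (neg_eq_zero.1 ((mul_eq_zero.1 this.symm).resolve_left hN0))
      have hcastA : ((subs aL).map fun x : ℕ => (x : ZMod p)).Nodup := by
        have h1 := card_le_card hsub
        rw [hBeq] at h1
        have h2 : ((subs aL).map fun x : ℕ => (x : ZMod p)).length = 2 ^ r := by
          rw [List.length_map, subs_length, haL, List.length_map]
        have h3 : A.card = ((subs aL).map fun x : ℕ => (x : ZMod p)).length := by omega
        rw [hA, List.card_toFinset] at h3
        exact List.dedup_eq_self.1 ((List.dedup_sublist _).eq_of_length h3)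
      obtain ⟨P, hPd, hPv, hP0⟩ := hP _ (hmemB 0 (zero_mem_subs _))
      have hl := diff_eq_single aL (fun x : ℕ => P.eval (x : ZMod p))
        (List.Nodup.of_map _ hcastA) 0 (zero_mem_subs _) fun x hx hx0 =>
          hP0 _ (mem_union_left B (hmemA x hx))
            fun e => hx0 (List.inj_on_of_nodup_map hcastA hx (zero_mem_subs _) e)
      have hw := hsing 0 (zero_mem_subs _) P hP0
      have heq := hE P hPd
      have hNpm : (N : ZMod p) = 1 ∨ (N : ZMod p) = -1 := by
        rcases hl with h | h <;> rcases hw with h' | h' <;> rw [h, h'] at heq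
        · exact Or.inl (mul_right_cancel₀ hPv (by linear_combination -heq))
        · exact Or.inr (mul_right_cancel₀ hPv (by linear_combination heq))
        · exact Or.inr (mul_right_cancel₀ hPv (by linear_combination -heq))
        · exact Or.inl (mul_right_cancel₀ hPv (by linear_combination heq))
      have hNle : N ≤ p + 1 := card_supp_le q p
      have hc := card_supp (q := q) p
      rw [← hNdef] at hc
      have hcle := card_supp_le q (p / q)
      set c := (supp q (p / q)).card with hcdef
      have hcpos : c ≠ 0 := fun e => by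
        rw [e, mul_zero] at hc
        exact hN0 (by rw [hc, Nat.cast_zero])
      have hN3 : 3 ≤ N := by
        rw [hc]
        calc 3 ≤ (p % q + 1) * 1 := by omega
          _ ≤ _ := Nat.mul_le_mul_left _ (by omega)
      rcases hNpm with h | h
      · have hd : p ∣ N - 1 := by
          rw [← ZMod.natCast_eq_zero_iff, Nat.cast_sub (by omega), h, Nat.cast_one, sub_self]
        obtain ⟨k, hk⟩ := hd
        rcases k with _ | _ | k
        · omega
        · exact hfull (by omega)
        · have : p * (k + 1 + 1) ≥ p * 2 := Nat.mul_le_mul_left p (by omega)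
          omega
      · have hd : p ∣ N + 1 := by
          rw [← ZMod.natCast_eq_zero_iff, Nat.cast_add, h, Nat.cast_one, neg_add_cancel]
        obtain ⟨k, hk⟩ := hd
        rcases k with _ | _ | k
        · omega
        · have hqq : q * q ≤ p := by
            refine le_trans ?_ hpow
            calc q * q = q ^ 2 := (sq q).symm
              _ ≤ _ := Nat.pow_le_pow_right hq.out.pos (by omega)
          have hbq : q ≤ p / q := (Nat.le_div_iff_mul_le hq.out.pos).2 hqq
          rcases (show p % q + 1 < q ∨ p % q + 1 = q by omega) with h1 | h1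
          · have h2 : (p % q + 1) * c ≤ (p % q + 1) * (p / q + 1) := Nat.mul_le_mul_left _ hcle
            rw [mul_add, mul_one] at h2
            have h3 : (p % q + 1) * (p / q) + p / q ≤ q * (p / q) :=
              le_trans (le_of_eq (by ring)) (Nat.mul_le_mul_right (p / q)
                (show p % q + 1 + 1 ≤ q by omega))
            rw [← hc] at h2
            omega
          · rw [h1] at hc
            have h2 : q ∣ 2 := by
              have h4 : q * (p / q) + q = q * c + 2 := by omega
              have h5 : q ∣ q * c + 2 := h4 ▸ dvd_add (dvd_mul_right q _) dvd_rfl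
              exact (Nat.dvd_add_right (dvd_mul_right q c)).1 h5
            have := Nat.le_of_dvd (by omega) h2
            omega
        · have : p * (k + 1 + 1) ≥ p * 2 := Nat.mul_le_mul_left p (by omega)
          omega
    · -- small cases
      have hK : q ^ (r - 2) ≤ g - 1 := by
        refine Nat.le_of_mul_le_mul_left (le_trans ?_ hbig) hq.out.pos
        rw [← pow_succ', show r - 2 + 1 = r - 1 by omega]
        exact hpow
      have hK2 : g + r + 1 ≤ 2 ^ (r + 1) := by omega
      have hbound : p ≤ q * (2 ^ (r + 1) - r - 2) :=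
        hbig.trans (Nat.mul_le_mul_left q (by omega))
      have hr7 : r ≤ 7 := by
        by_contra h
        have : ∀ n, 8 ≤ n → 2 ^ (n + 1) ≤ 3 ^ (n - 2) := by
          intro n hn
          induction n, hn using Nat.le_induction with
          | base => norm_num
          | succ n hn ih =>
            rw [show n + 1 - 2 = n - 2 + 1 by omega, pow_succ 2 (n + 1), pow_succ 3 (n - 2)]
            omega
        have h1 := this r (by omega)
        have h2 : 3 ^ (r - 2) ≤ q ^ (r - 2) := Nat.pow_le_pow_left hq3 _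
        omega
      have hq13 : q < 13 := by
        by_contra h
        have h2 : 13 ^ (r - 2) ≤ q ^ (r - 2) := Nat.pow_le_pow_left (by omega) _
        interval_cases r <;> norm_num at h2 hK hK2 <;> omega
      have hprime : ∀ d ∈ List.range' 2 26, p % d = 0 → p = d := by
        intro d hd he
        rcases hp.out.eq_one_or_self_of_dvd d (Nat.dvd_of_mod_eq_zero he) with h | h
        · rw [List.mem_range'] at hd
          omega
        · exact h.symm
      have hcheck : ∀ b, smallOK q b = true → p < b → p < q ^ 8 → False := by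
        intro b hb hlt hlt8
        obtain ⟨e1, -, e3⟩ := mom_spec 8 p hlt8 (q := q)
        have h := of_decide_eq_true (List.all_eq_true.1 hb p (List.mem_range.2 hlt))
        have hm : (mom q 8 p).2.2 % p = 0 := by
          apply Nat.mod_eq_zero_of_dvd
          rw [← ZMod.natCast_eq_zero_iff, e3]
          push_cast
          simpa [pow_two] using hM2
        exact hfull (e1.symm.trans (h hqp hp2 hprime hm))
      obtain ⟨k3, k5, k7, k11⟩ := small_check
      have hq4 : q = 3 ∨ q = 5 ∨ q = 7 ∨ q = 11 := by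
        have h2 : q % 2 = 1 := hq.out.eq_two_or_odd.resolve_left hq2
        have h9 : q ≠ 9 := fun e => by
          rcases hq.out.eq_one_or_self_of_dvd 3 ⟨3, by omega⟩ with h | h <;> omega
        omega
      rcases hq4 with rfl | rfl | rfl | rfl
      · interval_cases r <;>
          first
          | (norm_num at hK hK2 hbound; omega)
          | exact hcheck _ k3 (by norm_num at hbound; omega) (by norm_num at hbound ⊢; omega)
      · interval_cases r <;>
          first
          | (norm_num at hK hK2 hbound; omega)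
          | exact hcheck _ k5 (by norm_num at hbound; omega) (by norm_num at hbound ⊢; omega)
      · interval_cases r <;>
          first
          | (norm_num at hK hK2 hbound; omega)
          | exact hcheck _ k7 (by norm_num at hbound; omega) (by norm_num at hbound ⊢; omega)
      · interval_cases r <;>
          first
          | (norm_num at hK hK2 hbound; omega)
          | exact hcheck _ k11 (by norm_num at hbound; omega) (by norm_num at hbound ⊢; omega)

end Cfsg.Agent.AppC
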