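import Mathlib

set_option autoImplicit false
set_option linter.style.haveILetI false

/-!
The support of the binomial coefficients `n.choose j` modulo a prime `q`, seen as a box of digit
vectors, and iterated differences along it.
-/

namespace Cfsg.Agent.AppC

open Finset

/-- The `j ≤ n` with `q ∤ n.choose j`. -/
def supp (q n : ℕ) : Finset ℕ := (range (n + 1)).filter fun j => ¬ q ∣ n.choose j

theorem mem_supp {q n j : ℕ} [hq : Fact q.Prime] : j ∈ supp q n ↔ ¬ q ∣ n.choose j := by
  simp only [supp, mem_filter, mem_range, and_iff_right_iff_imp]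
  intro h
  by_contra hlt
  exact h (by rw [Nat.choose_eq_zero_of_lt (by omega)]; exact dvd_zero q)

theorem supp_zero (q : ℕ) [hq : Fact q.Prime] : supp q 0 = {0} := by
  ext j
  rw [mem_supp, mem_singleton]
  rcases j with _ | j
  · simpa using hq.out.ne_one
  · simp

theorem dvd_choose_small {q : ℕ} (hq : q.Prime) {a : ℕ} (ha : a < q) {e : ℕ} :
    q ∣ a.choose e ↔ a < e := by
  refine ⟨fun h => ?_, fun h => by rw [Nat.choose_eq_zero_of_lt h]; exact dvd_zero q⟩
  by_contra hle
  have h1 := Nat.choose_mul_factorial_mul_factorial (not_lt.1 hle)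
  have h2 : q ∣ a.factorial := h1 ▸ dvd_mul_of_dvd_left (dvd_mul_of_dvd_left h _) _
  exact absurd ((hq.dvd_factorial).1 h2) (not_le.2 ha)

theorem mem_supp_succ {q : ℕ} [hq : Fact q.Prime] {n j : ℕ} :
    j ∈ supp q n ↔ j % q ≤ n % q ∧ j / q ∈ supp q (n / q) := by
  have h : q ∣ n.choose j ↔ q ∣ (n % q).choose (j % q) * (n / q).choose (j / q) := by
    rw [← Nat.modEq_zero_iff_dvd, ← Nat.modEq_zero_iff_dvd]
    exact ⟨fun h => (Choose.choose_modEq_choose_mod_mul_choose_div_nat).symm.trans h,
      fun h => (Choose.choose_modEq_choose_mod_mul_choose_div_nat).trans h⟩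
  rw [mem_supp, mem_supp, h, hq.out.dvd_mul, not_or,
    dvd_choose_small hq.out (Nat.mod_lt _ hq.out.pos), not_lt]

theorem sum_supp {q : ℕ} [hq : Fact q.Prime] {M : Type*} [AddCommMonoid M] (n : ℕ) (φ : ℕ → M) :
    ∑ j ∈ supp q n, φ j = ∑ e ∈ range (n % q + 1), ∑ i ∈ supp q (n / q), φ (e + q * i) := by
  rw [← Finset.sum_product']
  refine Finset.sum_bij' (fun j _ => (j % q, j / q)) (fun x _ => x.1 + q * x.2) ?_ ?_ ?_ ?_ ?_
  · intro j hj
    have := mem_supp_succ.1 hj
    exact mem_product.2 ⟨mem_range.2 (Nat.lt_succ_of_le this.1), this.2⟩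
  · rintro ⟨e, i⟩ hx
    rw [mem_product, mem_range] at hx
    have he : e < q := lt_of_lt_of_le hx.1 (Nat.mod_lt _ hq.out.pos)
    refine mem_supp_succ.2 ⟨?_, ?_⟩
    · simp only [Nat.add_mul_mod_self_left, Nat.mod_eq_of_lt he]
      exact Nat.lt_succ_iff.1 hx.1
    · simp only [Nat.add_mul_div_left _ _ hq.out.pos, Nat.div_eq_of_lt he, zero_add]
      exact hx.2
  · intro j _
    exact Nat.mod_add_div j q
  · rintro ⟨e, i⟩ hx
    rw [mem_product, mem_range] at hx
    have he : e < q := lt_of_lt_of_le hx.1 (Nat.mod_lt _ hq.out.pos)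
    simp [Nat.add_mul_mod_self_left, Nat.mod_eq_of_lt he, Nat.add_mul_div_left _ _ hq.out.pos,
      Nat.div_eq_of_lt he]
  · intro j _
    rw [Nat.mod_add_div]

theorem card_supp {q : ℕ} [hq : Fact q.Prime] (n : ℕ) :
    (supp q n).card = (n % q + 1) * (supp q (n / q)).card := by
  rw [card_eq_sum_ones, sum_supp, card_eq_sum_ones]
  simp

theorem card_supp_le (q n : ℕ) : (supp q n).card ≤ n + 1 :=
  (card_filter_le _ _).trans (card_range _).le

theorem full_supp {q : ℕ} [hq : Fact q.Prime] (n : ℕ) :
    (supp q n).card = n + 1 → ∃ a m : ℕ, 1 ≤ a ∧ a ≤ q ∧ n + 1 = a * q ^ m := by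
  induction n using Nat.strong_induction_on with
  | _ n ih =>
  intro h
  rcases lt_or_ge n q with hlt | hge
  · exact ⟨n + 1, 0, by omega, hlt, by simp⟩
  have hb : 0 < n / q := Nat.div_pos hge hq.out.pos
  have hd := Nat.mod_add_div n q
  have hm : n % q < q := Nat.mod_lt _ hq.out.pos
  have hle := card_supp_le q (n / q)
  rw [card_supp] at h
  have h1 : n % q + 1 = q := by
    by_contra hne
    have h2 : (n % q + 1) * (supp q (n / q)).card ≤ (n % q + 1) * (n / q + 1) :=
      Nat.mul_le_mul_left _ hle
    have h3 : (n % q + 2) * (n / q) ≤ q * (n / q) := Nat.mul_le_mul_right _ (by omega)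
    nlinarith
  have h2 : (supp q (n / q)).card = n / q + 1 := by
    rw [h1] at h
    nlinarith [hq.out.pos]
  obtain ⟨a, m, ha, ha', he⟩ := ih (n / q) (Nat.div_lt_self (by omega) hq.out.one_lt) h2
  refine ⟨a, m + 1, ha, ha', ?_⟩
  rw [pow_succ, ← mul_assoc, ← he, add_mul, one_mul, mul_comm (n / q)]
  omega

section Lists

variable {M : Type*} [AddCommGroup M]

/-- Sum over a box given by (weight, digit bound). -/
def boxSum : List (ℕ × ℕ) → (ℕ → M) → M
  | [], φ => φ 0
  | wd :: l, φ => ∑ e ∈ range (wd.2 + 1), boxSum l fun x => φ (e * wd.1 + x)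

/-- Iterated differences. -/
def diff : List ℕ → (ℕ → M) → ℕ → M
  | [], φ => φ
  | w :: l, φ => diff l fun x => φ (w + x) - φ x

/-- Subset sums. -/
def subs : List ℕ → List ℕ
  | [] => [0]
  | w :: l => subs l ++ (subs l).map (w + ·)

theorem diff_shift (l : List ℕ) (φ : ℕ → M) (c : ℕ) :
    diff l (fun x => φ (c + x)) = fun x => diff l φ (c + x) := by
  induction l generalizing φ with
  | nil => rfl
  | cons w l ih =>
    simp only [diff]
    rw [← ih (fun x => φ (w + x) - φ x)]
    congr 1
    funext x
    rw [add_left_comm c w x]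

theorem diff_sum {ι : Type*} (s : Finset ι) (l : List ℕ) (φ : ι → ℕ → M) :
    diff l (fun x => ∑ i ∈ s, φ i x) = fun x => ∑ i ∈ s, diff l (φ i) x := by
  induction l generalizing φ with
  | nil => rfl
  | cons w l ih =>
    simp only [diff]
    rw [← ih fun i x => φ i (w + x) - φ i x]
    congr 1
    funext x
    rw [Finset.sum_sub_distrib]

theorem diff_sub (l : List ℕ) (φ ψ : ℕ → M) :
    diff l (fun x => φ x - ψ x) = fun x => diff l φ x - diff l ψ x := by
  induction l generalizing φ ψ with
  | nil => rfl
  | cons w l ih =>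
    simp only [diff]
    rw [← ih]
    congr 1
    funext x
    abel

theorem subs_length (l : List ℕ) : (subs l).length = 2 ^ l.length := by
  induction l with
  | nil => rfl
  | cons w l ih => simp [subs, ih, pow_succ]; omega

theorem le_of_mem_subs (l : List ℕ) : ∀ x ∈ subs l, x ≤ l.sum := by
  induction l with
  | nil => simp [subs]
  | cons w l ih =>
    intro x hx
    simp only [subs, List.mem_append, List.mem_map] at hx
    rw [List.sum_cons]
    rcases hx with hx | ⟨y, hy, rfl⟩
    · exact (ih x hx).trans (Nat.le_add_left _ _)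
    · exact Nat.add_le_add_left (ih y hy) _

theorem boxSum_diff (W : List (ℕ × ℕ)) (φ : ℕ → M) :
    boxSum W (diff (W.map Prod.fst) φ) = diff (W.map fun wd => (wd.2 + 1) * wd.1) φ 0 := by
  induction W generalizing φ with
  | nil => rfl
  | cons wd l ih =>
    obtain ⟨w, d⟩ := wd
    simp only [List.map_cons, diff, boxSum]
    have h : ∀ e : ℕ, (fun x => diff (l.map Prod.fst) (fun x => φ (w + x) - φ x) (e * w + x)) =
        diff (l.map Prod.fst) (fun x => φ ((e + 1) * w + x) - φ (e * w + x)) := by
      intro e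
      rw [← diff_shift]
      congr 1
      funext x
      rw [add_one_mul, add_comm (e * w) w, add_assoc]
    simp only [h, ih]
    have h2 := congrFun (diff_sum (range (d + 1)) (l.map fun wd => (wd.2 + 1) * wd.1)
      (fun e x => φ ((e + 1) * w + x) - φ (e * w + x))) 0
    rw [← h2]
    congr 1
    funext x
    rw [Finset.sum_range_sub (fun e => φ (e * w + x)), zero_mul, zero_add]

theorem boxSum_scale (c : ℕ) (W : List (ℕ × ℕ)) (φ : ℕ → M) :
    boxSum (W.map fun wd => (c * wd.1, wd.2)) φ = boxSum W fun x => φ (c * x) := by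
  induction W generalizing φ with
  | nil => simp [boxSum]
  | cons wd l ih =>
    simp only [List.map_cons, boxSum, ih]
    refine Finset.sum_congr rfl fun e _ => ?_
    congr 1
    funext x
    congr 1
    ring

theorem diff_eq_zero (l : List ℕ) (φ : ℕ → M) (h : ∀ x ∈ subs l, φ x = 0) : diff l φ 0 = 0 := by
  induction l generalizing φ with
  | nil => exact h 0 (by simp [subs])
  | cons w l ih =>
    simp only [diff]
    rw [congrFun (diff_sub l (fun x => φ (w + x)) φ) 0, ih _ fun x hx => ?_, ih _ fun x hx => ?_,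
      sub_zero]
    · exact h x (by simp [subs, hx])
    · exact h (w + x) (by simp only [subs, List.mem_append, List.mem_map]; exact Or.inr ⟨x, hx, rfl⟩)

theorem diff_eq_single (l : List ℕ) (φ : ℕ → M) (hnd : (subs l).Nodup) (v : ℕ) (hv : v ∈ subs l)
    (h : ∀ x ∈ subs l, x ≠ v → φ x = 0) : diff l φ 0 = φ v ∨ diff l φ 0 = -φ v := by
  induction l generalizing φ v with
  | nil =>
    left
    simp only [subs, List.mem_singleton] at hv
    rw [hv]
    rfl
  | cons w l ih =>
    simp only [subs, List.nodup_append] at hnd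
    obtain ⟨hnd1, hnd2, hne⟩ := hnd
    simp only [diff]
    rw [congrFun (diff_sub l (fun x => φ (w + x)) φ) 0]
    simp only [subs, List.mem_append, List.mem_map] at hv h
    rcases hv with hv | ⟨u, hu, rfl⟩
    · rw [diff_eq_zero l (fun x => φ (w + x)) fun x hx => h _ (Or.inr ⟨x, hx, rfl⟩)
        fun e => hne _ hv _ (List.mem_map.2 ⟨x, hx, rfl⟩) e.symm, zero_sub]
      rcases ih φ hnd1 v hv fun x hx hxv => h x (Or.inl hx) hxv with e | e
      · exact Or.inr (by rw [e])
      · exact Or.inl (by rw [e, neg_neg])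
    · rw [diff_eq_zero l φ fun x hx => h _ (Or.inl hx)
        fun e => hne _ hx _ (List.mem_map.2 ⟨u, hu, rfl⟩) e, sub_zero]
      exact ih (fun x => φ (w + x)) hnd1 u hu fun x hx hxu =>
        h _ (Or.inr ⟨x, hx, rfl⟩) fun e => hxu (by omega)

end Lists

/-- The nonzero digits of `n` with their weights, and what is needed about them. -/
structure IsWeights (q n : ℕ) (W : List (ℕ × ℕ)) : Prop where
  sum : ∀ (M : Type) (_ : AddCommGroup M) (φ : ℕ → M), ∑ j ∈ supp q n, φ j = boxSum W φ
  total : (W.map fun wd => wd.2 * wd.1).sum = n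
  digit : ∀ wd ∈ W, 1 ≤ wd.2 ∧ wd.2 < q
  nodup : (subs (W.map Prod.fst)).Nodup
  pow : n ≠ 0 → 1 ≤ W.length ∧ q ^ (W.length - 1) ≤ n
  strict : 2 ≤ n % q → (W.map Prod.fst).sum < n

theorem subs_map_mul (c : ℕ) (l : List ℕ) :
    subs (l.map (c * ·)) = (subs l).map (c * ·) := by
  induction l with
  | nil => simp [subs]
  | cons w l ih => simp [subs, ih, List.map_append, Function.comp_def, mul_add]

theorem sum_map_mul (c : ℕ) (l : List ℕ) : (l.map (c * ·)).sum = c * l.sum := by
  induction l with
  | nil => simp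
  | cons w l ih => simp [ih, mul_add]

theorem weights_step {q : ℕ} [hq : Fact q.Prime] {n : ℕ} {W : List (ℕ × ℕ)}
    (hW : IsWeights q (n / q) W) (hn : n ≠ 0) :
    IsWeights q n
      (if n % q = 0 then W.map (fun wd => (q * wd.1, wd.2))
        else (1, n % q) :: W.map (fun wd => (q * wd.1, wd.2))) := by
  have hd := Nat.mod_add_div n q
  have hle : ∀ l : List (ℕ × ℕ), (∀ wd ∈ l, 1 ≤ wd.2) →
      (l.map Prod.fst).sum ≤ (l.map fun wd => wd.2 * wd.1).sum := by
    intro l hl
    induction l with
    | nil => simp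
    | cons wd l ihl =>
      simp only [List.map_cons, List.sum_cons]
      have h1 := ihl fun x hx => hl x (List.mem_cons_of_mem _ hx)
      have h2 : wd.1 ≤ wd.2 * wd.1 := Nat.le_mul_of_pos_left _ (hl wd List.mem_cons_self)
      omega
  have htot : ((W.map fun wd => (q * wd.1, wd.2)).map fun wd => wd.2 * wd.1).sum = q * (n / q) := by
    rw [← hW.total, ← sum_map_mul, List.map_map, List.map_map]
    congr 2
    funext wd
    simp only [Function.comp_apply]
    ring
  have hfst : (W.map fun wd => (q * wd.1, wd.2)).map Prod.fst = (W.map Prod.fst).map (q * ·) := by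
    simp [List.map_map, Function.comp_def]
  have hinj : Function.Injective (q * · : ℕ → ℕ) := fun a b h =>
    Nat.eq_of_mul_eq_mul_left hq.out.pos h
  have hnd : (subs ((W.map fun wd => (q * wd.1, wd.2)).map Prod.fst)).Nodup := by
    rw [hfst, subs_map_mul]
    exact hW.nodup.map hinj
  have hdig : ∀ wd ∈ W.map (fun wd => (q * wd.1, wd.2)), 1 ≤ wd.2 ∧ wd.2 < q := by
    intro wd h
    obtain ⟨x, hx, rfl⟩ := List.mem_map.1 h
    exact hW.digit x hx
  by_cases h0 : n % q = 0
  · rw [if_pos h0]
    refine ⟨fun M _ φ => ?_, by rw [htot]; omega, hdig, hnd, fun _ => ?_, fun h => by omega⟩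
    · rw [boxSum_scale, sum_supp, h0, ← hW.sum]
      simp
    · have hb : n / q ≠ 0 := by
        intro h
        rw [h, mul_zero] at hd
        omega
      obtain ⟨h1, h2⟩ := hW.pow hb
      rw [List.length_map]
      exact ⟨h1, h2.trans (Nat.div_le_self _ _)⟩
  · rw [if_neg h0]
    refine ⟨fun M _ φ => ?_, ?_, ?_, ?_, fun _ => ?_, fun h2 => ?_⟩
    · simp only [boxSum, mul_one]
      rw [sum_supp]
      refine Finset.sum_congr rfl fun e _ => ?_
      rw [boxSum_scale, ← hW.sum]
    · rw [List.map_cons, List.sum_cons, htot]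
      simpa using hd
    · intro wd h
      rcases List.mem_cons.1 h with rfl | h
      · exact ⟨Nat.one_le_iff_ne_zero.2 h0, Nat.mod_lt _ hq.out.pos⟩
      · exact hdig wd h
    · simp only [List.map_cons, subs, List.nodup_append]
      refine ⟨hnd, hnd.map (fun a b h => by simpa using h), ?_⟩
      rw [hfst, subs_map_mul]
      intro a ha b hb hab
      simp only [List.mem_map] at ha hb
      obtain ⟨x, -, rfl⟩ := ha
      obtain ⟨_, ⟨z, -, rfl⟩, rfl⟩ := hb
      have h3 : (q * x) % q = (1 + q * z) % q := by rw [hab]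
      rw [Nat.mul_mod_right, Nat.add_mul_mod_self_left, Nat.mod_eq_of_lt hq.out.one_lt] at h3
      exact one_ne_zero h3.symm
    · rw [List.length_cons, List.length_map]
      refine ⟨by omega, ?_⟩
      rw [Nat.add_sub_cancel]
      by_cases hb : n / q = 0
      · rcases W with _ | ⟨wd, W'⟩
        · simp only [List.length_nil, pow_zero]
          omega
        · exfalso
          have h1 := (hW.digit wd List.mem_cons_self).1
          have h2 := hW.total
          rw [hb, List.map_cons, List.sum_cons] at h2
          rcases Nat.mul_eq_zero.1 (Nat.eq_zero_of_add_eq_zero_right h2) with h | h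
          · omega
          · have h4 := hW.nodup
            simp only [List.map_cons, subs, h, zero_add, List.map_id'] at h4
            have hne : (subs (List.map Prod.fst W')) ≠ [] := by
              intro e
              have := subs_length (List.map Prod.fst W')
              rw [e] at this
              simp at this
              exact (Nat.two_pow_pos _).ne this
            obtain ⟨x, hx⟩ := List.exists_mem_of_ne_nil _ hne
            exact List.disjoint_of_nodup_append h4 hx hx
      · obtain ⟨h1, h2⟩ := hW.pow hb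
        calc q ^ W.length = q ^ (W.length - 1) * q := by
              rw [← pow_succ, Nat.sub_add_cancel h1]
          _ ≤ n / q * q := Nat.mul_le_mul_right q h2
          _ ≤ n := Nat.div_mul_le_self n q
    · rw [List.map_cons, List.sum_cons]
      have h3 := (hle _ fun wd h => (hdig wd h).1).trans_eq htot
      simp only at h3 ⊢
      omega

theorem exists_weights {q : ℕ} [hq : Fact q.Prime] (n : ℕ) : ∃ W, IsWeights q n W := by
  induction n using Nat.strong_induction_on with
  | _ n ih =>
  rcases Nat.eq_zero_or_pos n with rfl | hn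
  · refine ⟨[], fun M _ φ => ?_, rfl, by simp, by simp [subs], fun h => absurd rfl h,
      fun h => by simp at h⟩
    simp [supp_zero, boxSum]
  · obtain ⟨W, hW⟩ := ih (n / q) (Nat.div_lt_self hn hq.out.one_lt)
    exact ⟨_, weights_step hW hn.ne'⟩

/-- Number, sum and sum of squares of the box, computed digit by digit. -/
def mom (q : ℕ) : ℕ → ℕ → ℕ × ℕ × ℕ
  | 0, _ => (1, 0, 0)
  | f + 1, n =>
    if n = 0 then (1, 0, 0) else
    let r := mom q f (n / q)
    let a := n % q + 1
    let s1 := (List.range a).sum
    let s2 := ((List.range a).map fun e => e * e).sum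
    (r.1 * a, r.2.1 * q * a + r.1 * s1, r.2.2 * q * q * a + 2 * q * r.2.1 * s1 + r.1 * s2)

theorem mom_spec {q : ℕ} [hq : Fact q.Prime] : ∀ (f n : ℕ), n < q ^ f →
    (mom q f n).1 = (supp q n).card ∧ (mom q f n).2.1 = ∑ j ∈ supp q n, j ∧
      (mom q f n).2.2 = ∑ j ∈ supp q n, j * j := by
  intro f
  induction f with
  | zero =>
    intro n hn
    obtain rfl : n = 0 := by simpa using hn
    simp [mom, supp_zero]
  | succ f ih =>
    intro n hn
    by_cases h0 : n = 0
    · subst h0
      simp [mom, supp_zero]
    have hlt : n / q < q ^ f := by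
      rw [Nat.div_lt_iff_lt_mul hq.out.pos, ← pow_succ]
      exact hn
    obtain ⟨h1, h2, h3⟩ := ih (n / q) hlt
    have e1 : ∀ a : ℕ, (List.range a).sum = ∑ e ∈ range a, e := fun a => by
      induction a with
      | zero => rfl
      | succ a iha => rw [List.range_succ, List.sum_append, iha, Finset.sum_range_succ]; simp
    have e2 : ∀ a : ℕ, ((List.range a).map fun e => e * e).sum = ∑ e ∈ range a, e * e := fun a => by
      induction a with
      | zero => rfl
      | succ a iha =>
        rw [List.range_succ, List.map_append, List.sum_append, iha, Finset.sum_range_succ]; simp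
    simp only [mom, if_neg h0, h1, h2, h3, e1, e2]
    refine ⟨?_, ?_, ?_⟩
    · rw [card_supp n]; ring
    · rw [sum_supp n]
      have e : ∀ x : ℕ, ∑ i ∈ supp q (n / q), (x + q * i) =
          (supp q (n / q)).card * x + q * ∑ i ∈ supp q (n / q), i := fun x => by
        rw [Finset.sum_add_distrib, Finset.sum_const, smul_eq_mul, ← Finset.mul_sum]
      simp only [e]
      rw [Finset.sum_add_distrib, ← Finset.mul_sum, Finset.sum_const, smul_eq_mul, card_range]
      ring
    · rw [sum_supp n]
      have e : ∀ x : ℕ, ∑ i ∈ supp q (n / q), (x + q * i) * (x + q * i) =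
          (supp q (n / q)).card * (x * x) + (2 * q * ∑ i ∈ supp q (n / q), i) * x +
            q * q * ∑ i ∈ supp q (n / q), i * i := fun x => by
        have : ∀ i : ℕ, (x + q * i) * (x + q * i) = x * x + 2 * q * i * x + q * q * (i * i) := by
          intros; ring
        simp only [this]
        rw [Finset.sum_add_distrib, Finset.sum_add_distrib, Finset.sum_const, smul_eq_mul,
          ← Finset.mul_sum, ← Finset.sum_mul, ← Finset.mul_sum]
      simp only [e]
      rw [Finset.sum_add_distrib, Finset.sum_add_distrib, ← Finset.mul_sum, ← Finset.mul_sum,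
        Finset.sum_const, smul_eq_mul, card_range]
      ring

end Cfsg.Agent.AppC
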