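import Cfsg.Agent.AppC.Exists

set_option autoImplicit false
set_option linter.style.haveILetI false

/-!
The configuration of the two-prime parabolic type: a norm-one group of a field of `p ^ q` elements
acting on its additive group, and an abelian `q`-group `Q` with an element `t` of `Q s` normalising
the norm-one group.
-/

namespace Cfsg.Agent.AppC

universe v

/-- The data. -/
structure Conf (p q : ℕ) (G : Type v) [Group G] (F : Type) [Field F] where
  /-- The order of the norm-one group. -/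
  u : ℕ
  u_mul : u * (p - 1) = p ^ q - 1
  /-- The translation group. -/
  e : F → G
  e_add : ∀ x y, e (x + y) = e x * e y
  e_inj : Function.Injective e
  /-- The norm-one group. -/
  ρ : F → G
  ρ_mul : ∀ v w : F, v ^ u = 1 → w ^ u = 1 → ρ (v * w) = ρ v * ρ w
  ρ_inj : ∀ v w : F, v ^ u = 1 → w ^ u = 1 → ρ v = ρ w → v = w
  act : ∀ (w : F), w ^ u = 1 → ∀ x, ρ w * e x * (ρ w)⁻¹ = e (w * x)
  /-- The abelian `q`-group. -/
  Q : Subgroup G
  Q_comm : ∀ x ∈ Q, ∀ y ∈ Q, x * y = y * x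
  Q_q : IsPGroup q Q
  Q_conj : ∀ z ∈ Q, e 1 * z * (e 1)⁻¹ ∈ Q
  /-- The conjugate of `s = e 1` normalising the norm-one group. -/
  t : G
  t_pow : t ^ p = 1
  t_mem : t * (e 1)⁻¹ ∈ Q
  t_norm : ∀ w : F, w ^ u = 1 → ∃ w' : F, w' ^ u = 1 ∧ t * ρ w * t⁻¹ = ρ w'

variable {p q : ℕ} [hp : Fact p.Prime] [hq : Fact q.Prime]
variable {G : Type v} [Group G] {F : Type} [Field F] [Fintype F] [Algebra (ZMod p) F]
variable (h : Conf p q G F)

local notation "κ" => algebraMap (ZMod p) F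

namespace Conf

include h

theorem u_pos : 0 < h.u := by
  rcases Nat.eq_zero_or_pos h.u with e | e
  · have := h.u_mul
    rw [e, zero_mul] at this
    have := Nat.lt_pow_self (n := q) hp.out.one_lt
    have := hq.out.two_le
    omega
  · exact e

theorem e_zero : h.e 0 = 1 := by
  have := h.e_add 0 0
  rw [add_zero] at this
  exact mul_eq_left.1 this.symm

theorem e_neg (x : F) : h.e (-x) = (h.e x)⁻¹ := by
  rw [eq_inv_iff_mul_eq_one, ← h.e_add, neg_add_cancel, h.e_zero]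

theorem e_comm (x y : F) : h.e x * h.e y = h.e y * h.e x := by
  rw [← h.e_add, add_comm, h.e_add]

theorem e_pow (x : F) (n : ℕ) : h.e x ^ n = h.e ((n : F) * x) := by
  induction n with
  | zero => simp [h.e_zero]
  | succ n ih => rw [pow_succ, ih, ← h.e_add]; congr 1; push_cast; ring

theorem one_U : (1 : F) ^ h.u = 1 := one_pow _

theorem mul_U {v w : F} (hv : v ^ h.u = 1) (hw : w ^ h.u = 1) : (v * w) ^ h.u = 1 := by
  rw [mul_pow, hv, hw, one_mul]

theorem inv_U {w : F} (hw : w ^ h.u = 1) : w⁻¹ ^ h.u = 1 := by rw [inv_pow, hw, inv_one]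

theorem pow_U {w : F} (hw : w ^ h.u = 1) (n : ℕ) : (w ^ n) ^ h.u = 1 := by
  rw [← pow_mul, mul_comm, pow_mul, hw, one_pow]

theorem ne_zero_U {w : F} (hw : w ^ h.u = 1) : w ≠ 0 := fun e => by
  rw [e, zero_pow h.u_pos.ne'] at hw
  exact zero_ne_one hw

theorem ρ_one : h.ρ 1 = 1 := by
  have := h.ρ_mul 1 1 h.one_U h.one_U
  rw [one_mul] at this
  exact mul_eq_left.1 this.symm

theorem ρ_inv {w : F} (hw : w ^ h.u = 1) : h.ρ w⁻¹ = (h.ρ w)⁻¹ := by
  rw [eq_inv_iff_mul_eq_one, ← h.ρ_mul _ _ (h.inv_U hw) hw, inv_mul_cancel₀ (h.ne_zero_U hw),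
    h.ρ_one]

/-- Powers of `s`. -/
def sp (k : ZMod p) : G := h.e (κ k)

theorem sp_add (a b : ZMod p) : h.sp (a + b) = h.sp a * h.sp b := by
  rw [sp, sp, sp, map_add, h.e_add]

theorem sp_zero : h.sp 0 = 1 := by rw [sp, map_zero, h.e_zero]

theorem sp_neg (a : ZMod p) : h.sp (-a) = (h.sp a)⁻¹ := by rw [sp, sp, map_neg, h.e_neg]

theorem sp_one : h.sp 1 = h.e 1 := by rw [sp, map_one]

/-- Powers of `t`. -/
def tp (k : ZMod p) : G := h.t ^ k.val

theorem tp_add (a b : ZMod p) : h.tp (a + b) = h.tp a * h.tp b := by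
  rw [tp, tp, tp, ← pow_add, ZMod.val_add, ← pow_eq_pow_mod _ h.t_pow]

theorem tp_zero : h.tp 0 = 1 := by rw [tp, ZMod.val_zero, pow_zero]

theorem tp_neg (a : ZMod p) : h.tp (-a) = (h.tp a)⁻¹ := by
  rw [eq_inv_iff_mul_eq_one, ← h.tp_add, neg_add_cancel, h.tp_zero]

theorem tp_one : h.tp 1 = h.t := by rw [tp, ZMod.val_one, pow_one]

theorem tp_natCast (n : ℕ) : h.tp (n : ZMod p) = h.t ^ n := by
  rw [tp, ZMod.val_natCast, ← pow_eq_pow_mod _ h.t_pow]

theorem tp_norm (k : ZMod p) {w : F} (hw : w ^ h.u = 1) :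
    ∃ w' : F, w' ^ h.u = 1 ∧ h.tp k * h.ρ w * (h.tp k)⁻¹ = h.ρ w' := by
  rw [tp]
  induction k.val with
  | zero => exact ⟨w, hw, by simp⟩
  | succ n ih =>
    obtain ⟨w', hw', e⟩ := ih
    obtain ⟨w'', hw'', e'⟩ := h.t_norm w' hw'
    refine ⟨w'', hw'', ?_⟩
    rw [← e', ← e, pow_succ']
    group

open Classical in
/-- The action of the powers of `t` on the norm-one group. -/
noncomputable def th (k : ZMod p) (w : F) : F :=
  if hw : w ^ h.u = 1 then Classical.choose (h.tp_norm k hw) else 1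

theorem th_U (k : ZMod p) {w : F} (hw : w ^ h.u = 1) : h.th k w ^ h.u = 1 := by
  rw [th, dif_pos hw]; exact (Classical.choose_spec (h.tp_norm k hw)).1

theorem th_spec (k : ZMod p) {w : F} (hw : w ^ h.u = 1) :
    h.tp k * h.ρ w * (h.tp k)⁻¹ = h.ρ (h.th k w) := by
  rw [th, dif_pos hw]; exact (Classical.choose_spec (h.tp_norm k hw)).2

theorem th_mul (k : ZMod p) {v w : F} (hv : v ^ h.u = 1) (hw : w ^ h.u = 1) :
    h.th k (v * w) = h.th k v * h.th k w := by
  refine h.ρ_inj _ _ (h.th_U k (h.mul_U hv hw)) (h.mul_U (h.th_U k hv) (h.th_U k hw)) ?_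
  rw [← h.th_spec k (h.mul_U hv hw), h.ρ_mul _ _ hv hw, h.ρ_mul _ _ (h.th_U k hv) (h.th_U k hw),
    ← h.th_spec k hv, ← h.th_spec k hw]
  group

theorem th_one (k : ZMod p) : h.th k 1 = 1 := by
  refine h.ρ_inj _ _ (h.th_U k h.one_U) h.one_U ?_
  rw [← h.th_spec k h.one_U, h.ρ_one]
  group

theorem th_zero {w : F} (hw : w ^ h.u = 1) : h.th 0 w = w := by
  refine h.ρ_inj _ _ (h.th_U 0 hw) hw ?_
  rw [← h.th_spec 0 hw, h.tp_zero]
  group

theorem th_th (a b : ZMod p) {w : F} (hw : w ^ h.u = 1) :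
    h.th a (h.th b w) = h.th (a + b) w := by
  refine h.ρ_inj _ _ (h.th_U a (h.th_U b hw)) (h.th_U _ hw) ?_
  rw [← h.th_spec a (h.th_U b hw), ← h.th_spec b hw, ← h.th_spec (a + b) hw, h.tp_add]
  group

theorem th_pow (k : ZMod p) {w : F} (hw : w ^ h.u = 1) (n : ℕ) :
    h.th k (w ^ n) = h.th k w ^ n := by
  induction n with
  | zero => rw [pow_zero, pow_zero, h.th_one]
  | succ n ih => rw [pow_succ, pow_succ, h.th_mul k (h.pow_U hw n) hw, ih]

/-- The translation `x` in the frame `n`. -/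
def fr (n : ZMod p) (x : F) : G := h.tp n * h.e x * (h.tp n)⁻¹

theorem fr_add (n : ZMod p) (x y : F) : h.fr n (x + y) = h.fr n x * h.fr n y := by
  rw [fr, fr, fr, h.e_add]; group

theorem fr_zero' (n : ZMod p) : h.fr n 0 = 1 := by rw [fr, h.e_zero]; group

theorem fr_neg (n : ZMod p) (x : F) : h.fr n (-x) = (h.fr n x)⁻¹ := by
  rw [fr, fr, h.e_neg]; group

theorem fr_base (x : F) : h.fr 0 x = h.e x := by rw [fr, h.tp_zero]; group

theorem fr_shift (m n : ZMod p) (x : F) :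
    h.tp m * h.fr n x * (h.tp m)⁻¹ = h.fr (m + n) x := by
  rw [fr, fr, h.tp_add]; group

theorem fr_conj (n : ZMod p) {w : F} (hw : w ^ h.u = 1) (x : F) :
    h.ρ w * h.fr n x * (h.ρ w)⁻¹ = h.fr n (h.th (-n) w * x) := by
  rw [fr, fr, ← h.act _ (h.th_U (-n) hw), ← h.th_spec (-n) hw, h.tp_neg]
  group

/-! ### The commutative group `Q` -/

theorem sp_conj_mem {z : G} (hz : z ∈ h.Q) (k : ZMod p) : h.sp k * z * (h.sp k)⁻¹ ∈ h.Q := by
  rw [← ZMod.natCast_zmod_val k]
  generalize k.val = n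
  induction n with
  | zero => simpa [h.sp_zero] using hz
  | succ n ih =>
    rw [Nat.cast_succ, add_comm, h.sp_add, h.sp_one]
    have := h.Q_conj _ ih
    simpa [mul_assoc] using this

/-- The `Q`-part of the powers of `t`. -/
def d (k : ZMod p) : G := h.tp k * (h.sp k)⁻¹

theorem d_spec (k : ZMod p) : h.tp k = h.d k * h.sp k := by rw [d]; group

theorem d_zero : h.d 0 = 1 := by rw [d, h.tp_zero, h.sp_zero]; group

theorem d_cocycle (a b : ZMod p) :
    h.d (a + b) = h.d a * (h.sp a * h.d b * (h.sp a)⁻¹) := by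
  rw [d, d, d, h.tp_add, h.sp_add]
  group

theorem d_mem (k : ZMod p) : h.d k ∈ h.Q := by
  rw [← ZMod.natCast_zmod_val k]
  generalize k.val = n
  induction n with
  | zero => rw [Nat.cast_zero, h.d_zero]; exact one_mem _
  | succ n ih =>
    rw [Nat.cast_succ, h.d_cocycle]
    refine mul_mem ih (h.sp_conj_mem ?_ _)
    rw [d, h.tp_one, h.sp_one]
    exact h.t_mem

theorem d_inv (k : ZMod p) : h.sp k * h.d (-k) * (h.sp k)⁻¹ = (h.d k)⁻¹ := by
  have := h.d_cocycle k (-k)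
  rw [add_neg_cancel, h.d_zero] at this
  exact eq_inv_of_mul_eq_one_right this.symm

theorem fr_sp (n j : ZMod p) :
    h.fr n (κ j) = h.d n * (h.sp j * (h.d n)⁻¹ * (h.sp j)⁻¹) * h.sp j := by
  rw [fr, h.d_spec n, show h.e (κ j) = h.sp j from rfl]
  have := h.e_comm (κ n) (κ j)
  calc h.d n * h.sp n * h.sp j * (h.d n * h.sp n)⁻¹
      = h.d n * (h.sp n * h.sp j) * (h.sp n)⁻¹ * (h.d n)⁻¹ := by group
    _ = h.d n * (h.sp j * h.sp n) * (h.sp n)⁻¹ * (h.d n)⁻¹ := by
          rw [show h.sp n * h.sp j = h.sp j * h.sp n from this]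
    _ = _ := by group

/-- The fundamental identity. -/
theorem sp_split (i j : ZMod p) : h.sp (i + j) = h.fr i (κ j) * h.fr (-j) (κ i) := by
  rw [fr, fr, show h.e (κ j) = h.sp j from rfl, show h.e (κ i) = h.sp i from rfl, ← h.tp_neg,
    ← h.tp_neg, neg_neg]
  have e1 : h.tp i * h.sp j * h.tp (-i) * (h.tp (-j) * h.sp i * h.tp j) =
      h.tp i * h.sp j * h.tp (-(i + j)) * h.sp i * h.tp j := by
    rw [neg_add, h.tp_add]; group
  rw [e1, h.d_spec i, h.d_spec j, h.d_spec (-(i + j))]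
  have hij : h.sp i * h.sp j = h.sp (i + j) := (h.sp_add i j).symm
  calc h.sp (i + j)
      = (h.d i * (h.sp i * h.d j * (h.sp i)⁻¹)) * (h.d (i + j))⁻¹ * h.sp (i + j) := by
        rw [← h.d_cocycle]; group
    _ = h.d i * (h.d (i + j))⁻¹ * (h.sp i * h.d j * (h.sp i)⁻¹) * h.sp (i + j) := by
        rw [mul_assoc (h.d i), h.Q_comm _ (h.sp_conj_mem (h.d_mem j) i) _ (inv_mem (h.d_mem _))]
        group
    _ = _ := by
        rw [← h.d_inv, h.sp_neg, h.sp_add]
        group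

theorem split {i j k : ZMod p} (hk : i + j = k) {w : F} (hw : w ^ h.u = 1) :
    h.e (κ k * w) = h.fr i (κ j * h.th (-i) w) * h.fr (-j) (κ i * h.th j w) := by
  have h2 := congrArg (fun g => h.ρ w * g * (h.ρ w)⁻¹) (h.sp_split i j)
  simp only [sp, h.act _ hw] at h2
  rw [hk, mul_comm w] at h2
  rw [h2, mul_comm (κ j), mul_comm (κ i), ← h.fr_conj i hw, show h.th j w = h.th (- -j) w by
    rw [neg_neg], ← h.fr_conj (-j) hw]
  group

/-- The reflection identity. -/
theorem reflect (c l : ZMod p) {U V : F} (hU : U ^ h.u = 1) (hV : V ^ h.u = 1) :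
    h.fr c (κ (c * l) * h.th (-c) U) * h.e (κ c * (κ (1 - l) * U + κ (1 + l) * V)) *
        h.fr (-c) (-(κ (c * l) * h.th c V)) =
      h.fr c (κ (c * l) * h.th (-c) V) * h.e (κ c * (κ (1 - l) * V + κ (1 + l) * U)) *
        h.fr (-c) (-(κ (c * l) * h.th c U)) := by
  set i : ZMod p := c * (1 - l) with hi
  have key : ∀ {A B : F}, A ^ h.u = 1 → B ^ h.u = 1 →
      h.fr c (κ (c * l) * h.th (-c) A) * h.e (κ c * (κ (1 - l) * A + κ (1 + l) * B)) *
          h.fr (-c) (-(κ (c * l) * h.th c B)) =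
        h.tp (c - i) * (h.e (κ c * h.th (i - c) A) * h.e (κ c * h.th (i - c) B)) *
          (h.tp (c - i))⁻¹ := by
    intro A B hA hB
    have sA := h.split (i := i) (j := c - i) (k := c) (by ring) (h.th_U (i - c) hA)
    have sB := h.split (i := i - c) (j := 2 * c - i) (k := c) (by ring) (h.th_U (i - c) hB)
    rw [h.th_th _ _ hA, h.th_th _ _ hA, show -i + (i - c) = -c by ring,
      show c - i + (i - c) = 0 by ring, h.th_zero hA] at sA
    rw [h.th_th _ _ hB, h.th_th _ _ hB, show -(i - c) + (i - c) = 0 by ring,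
      show 2 * c - i + (i - c) = c by ring, h.th_zero hB] at sB
    rw [sA, sB]
    have e : ∀ a b : G, h.tp (c - i) * (a * b) * (h.tp (c - i))⁻¹ =
        (h.tp (c - i) * a * (h.tp (c - i))⁻¹) * (h.tp (c - i) * b * (h.tp (c - i))⁻¹) :=
      fun a b => by group
    simp only [e, h.fr_shift]
    rw [show c - i + i = c by ring, show c - i + -(c - i) = 0 by ring,
      show c - i + (i - c) = 0 by ring, show c - i + -(2 * c - i) = -c by ring, mul_assoc,
      mul_assoc, ← mul_assoc (h.fr 0 _), ← h.fr_add, h.fr_base]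
    rw [show κ (c - i) = κ (c * l) by rw [hi]; ring_nf,
      show κ (i - c) = -κ (c * l) by rw [← map_neg, hi]; ring_nf,
      show κ c * (κ (1 - l) * A + κ (1 + l) * B) = κ i * A + κ (2 * c - i) * B by
        rw [hi]; simp only [map_mul, map_sub, map_add, map_one, map_ofNat]; ring,
      neg_mul]
  rw [key hU hV, key hV hU, h.e_comm]

/-- Witnessed membership in `P_c P_{-c}`, Frobenius equivariantly. -/
def Wt (c : ZMod p) (x : F) : Prop :=
  ∃ A B : F, h.e (κ c * x) = h.fr c A * h.fr (-c) B ∧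
    h.e (κ c * x ^ p) = h.fr c (A ^ p) * h.fr (-c) (B ^ p)

theorem κ_pow (k : ZMod p) : κ k ^ p = κ k := by rw [← map_pow, ZMod.pow_card]

theorem Wt_two (c : ZMod p) : h.Wt c 2 := by
  have h2 := h.sp_split c c
  refine ⟨κ c, κ c, ?_, ?_⟩
  · rw [← h2, sp, map_add]; ring_nf
  · rw [show (2 : F) ^ p = 2 by rw [← map_ofNat (κ) 2]; exact h.κ_pow 2, h.κ_pow, ← h2, sp, map_add]
    ring_nf

theorem Wt_reflect [CharP F p] {c l : ZMod p} {U V : F} (hU : U ^ h.u = 1) (hV : V ^ h.u = 1)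
    (hM : h.Wt c (κ (1 - l) * U + κ (1 + l) * V)) :
    h.Wt c (κ (1 - l) * V + κ (1 + l) * U) := by
  obtain ⟨A, B, h1, h2⟩ := hM
  refine ⟨κ (c * l) * h.th (-c) U - κ (c * l) * h.th (-c) V + A,
    B + (-(κ (c * l) * h.th c V) + κ (c * l) * h.th c U), ?_, ?_⟩
  · have e := h.reflect c l hU hV
    rw [h1] at e
    rw [show ∀ a b : F, a - b = -b + a from fun a b => by ring, h.fr_add, h.fr_add, h.fr_add,
      h.fr_add, h.fr_neg, h.fr_neg]
    simp only [h.fr_neg] at e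
    calc h.e (κ c * (κ (1 - l) * V + κ (1 + l) * U))
        = (h.fr c (κ (c * l) * h.th (-c) V))⁻¹ *
            (h.fr c (κ (c * l) * h.th (-c) V) * h.e (κ c * (κ (1 - l) * V + κ (1 + l) * U)) *
              (h.fr (-c) (κ (c * l) * h.th c U))⁻¹) * h.fr (-c) (κ (c * l) * h.th c U) := by group
      _ = _ := by rw [← e]; group
  · have hp' : (κ (1 - l) * U + κ (1 + l) * V) ^ p = κ (1 - l) * U ^ p + κ (1 + l) * V ^ p := by
      rw [add_pow_char, mul_pow, mul_pow, h.κ_pow, h.κ_pow]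
    rw [hp'] at h2
    have e := h.reflect c l (h.pow_U hU p) (h.pow_U hV p)
    rw [h2, h.th_pow _ hU, h.th_pow _ hV, h.th_pow _ hV, h.th_pow _ hU] at e
    rw [add_pow_char, add_pow_char, add_pow_char, add_pow_char, sub_pow_char, mul_pow, mul_pow,
      h.κ_pow, h.κ_pow, show ∀ x : F, (-x) ^ p = -x ^ p from fun x => map_neg (frobenius F p) x]
    simp only [mul_pow, h.κ_pow]
    rw [show ∀ a b : F, a - b = -b + a from fun a b => by ring, h.fr_add, h.fr_add, h.fr_add,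
      h.fr_add, h.fr_neg, h.fr_neg]
    simp only [h.fr_neg] at e
    calc h.e (κ c * (κ (1 - l) * V ^ p + κ (1 + l) * U ^ p))
        = (h.fr c (κ (c * l) * h.th (-c) V ^ p))⁻¹ *
            (h.fr c (κ (c * l) * h.th (-c) V ^ p) * h.e (κ c * (κ (1 - l) * V ^ p + κ (1 + l) * U ^ p)) *
              (h.fr (-c) (κ (c * l) * h.th c U ^ p))⁻¹) * h.fr (-c) (κ (c * l) * h.th c U ^ p) := by
          group
      _ = _ := by rw [← e]; group

end Conf

end Cfsg.Agent.AppC
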