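import Cfsg.Agent.AppC.Conf
import Cfsg.Agent.AppC.Arith

set_option autoImplicit false
set_option linter.style.haveILetI false
set_option maxHeartbeats 1000000

/-!
The configuration of two-prime parabolic type is contradictory.
-/

namespace Cfsg.Agent.AppC

universe v

open Polynomial

variable {p q : ℕ} [hp : Fact p.Prime] [hq : Fact q.Prime]
variable {G : Type v} [Group G] {F : Type} [Field F] [Fintype F] [Algebra (ZMod p) F]
variable (h : Conf p q G F)

local notation "κ" => algebraMap (ZMod p) F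

namespace Conf

include h

omit hq in
theorem u_eq : h.u = ∑ i ∈ Finset.range q, p ^ i := by
  have h1 := geom_sum_mul_add (p - 1) q
  rw [Nat.sub_add_cancel hp.out.one_le] at h1
  have h2 : h.u * (p - 1) = (∑ i ∈ Finset.range q, p ^ i) * (p - 1) := by
    rw [h.u_mul]; omega
  exact Nat.eq_of_mul_eq_mul_right (by have := hp.out.two_le; omega) h2

theorem decomp [CharP F p] (hF : Fintype.card F = p ^ q) (hcop : h.u.Coprime (p - 1)) {z : F}
    (hz : z ≠ 0) :
    ∃ (k : ZMod p) (w : F), k ≠ 0 ∧ w ^ h.u = 1 ∧ z = κ k * w := by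
  have h1 : (z ^ h.u) ^ (p - 1) = 1 := by
    rw [← pow_mul, h.u_mul, ← hF, FiniteField.pow_card_sub_one_eq_one _ hz]
  obtain ⟨n, hn⟩ := mem_range_of_pow_eq (p := p) (x := z ^ h.u) (by
    calc (z ^ h.u) ^ p = (z ^ h.u) ^ (p - 1) * z ^ h.u := by
          rw [← pow_succ, Nat.sub_add_cancel hp.out.one_le]
      _ = z ^ h.u := by rw [h1, one_mul])
  have hn0 : (n : ZMod p) ≠ 0 := by
    intro e
    apply pow_ne_zero h.u hz
    rw [← hn, ← map_natCast κ, e, map_zero]
  have hc : (Nat.card (ZMod p)ˣ).Coprime h.u := by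
    rw [Nat.card_eq_fintype_card, ZMod.card_units]; exact hcop.symm
  set k : (ZMod p)ˣ := (powCoprime hc).symm (Units.mk0 _ hn0) with hk
  have hku : (k : ZMod p) ^ h.u = n := by
    have := congrArg Units.val ((powCoprime hc).apply_symm_apply (Units.mk0 _ hn0))
    rw [powCoprime_apply, Units.val_pow_eq_pow_val, ← hk] at this
    exact this
  have hk0 : κ (k : ZMod p) ≠ 0 := by rw [Ne, map_eq_zero]; exact k.ne_zero
  refine ⟨k, z / κ k, k.ne_zero, ?_, by rw [mul_div_cancel₀ _ hk0]⟩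
  rw [div_pow, ← map_pow, hku, map_natCast, hn, div_self (pow_ne_zero _ hz)]

theorem range_conj [CharP F p] (hF : Fintype.card F = p ^ q) (hcop : h.u.Coprime (p - 1))
    {m : ZMod p} {x x' : F} (hx : x ≠ 0) (he : h.fr m x = h.e x') (z : F) :
    ∃ z', h.fr m z = h.e z' := by
  rcases eq_or_ne z 0 with rfl | hz
  · exact ⟨0, by rw [h.fr_zero', h.e_zero]⟩
  obtain ⟨k, w, -, hw, e⟩ := h.decomp hF hcop (div_ne_zero hz hx)
  have h1 : h.fr m (w * x) = h.e (h.th m w * x') := by
    rw [← h.act _ (h.th_U m hw), ← he, h.fr_conj m (h.th_U m hw), h.th_th _ _ hw, neg_add_cancel,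
      h.th_zero hw]
  have h2 : z = (k.val : F) * (w * x) := by
    rw [← map_natCast κ, ZMod.natCast_zmod_val, ← mul_assoc, ← e, div_mul_cancel₀ _ hx]
  refine ⟨(k.val : F) * (h.th m w * x'), ?_⟩
  rw [h2, ← h.e_pow, ← h1, fr, fr, ← h.e_pow]
  exact conj_pow.symm

theorem t_not_norm [CharP F p] (hF : Fintype.card F = p ^ q) (hcop : h.u.Coprime (p - 1))
    (hqp : q < p) {a : F} (ha : a ^ h.u = 1) (ha1 : a ≠ 1)
    (hall : ∀ z, ∃ z', h.fr 1 z = h.e z') : False := by
  classical
  choose α hα using hall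
  have hαadd : ∀ x y, α (x + y) = α x + α y := fun x y => h.e_inj (by
    rw [← hα, h.fr_add, hα, hα, h.e_add])
  have hαinj : Function.Injective α := fun x y hxy => by
    have := hα x
    rw [hxy, ← hα y, fr, fr] at this
    exact h.e_inj (mul_left_cancel (mul_right_cancel this))
  have hαw : ∀ w, w ^ h.u = 1 → ∀ z, α (w * z) = h.th 1 w * α z := fun w hw z => h.e_inj (by
    rw [← hα, ← h.act _ (h.th_U 1 hw), ← hα z, h.fr_conj 1 (h.th_U 1 hw), h.th_th _ _ hw,
      neg_add_cancel, h.th_zero hw])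
  have hit : ∀ (j : ℕ) (z : F), h.e (α^[j] z) = h.fr (j : ZMod p) z := by
    intro j
    induction j with
    | zero => intro z; rw [Nat.cast_zero, h.fr_base]; rfl
    | succ j ih =>
      intro z
      rw [Function.iterate_succ_apply, ih, Nat.cast_succ, ← h.fr_shift (j : ZMod p) 1 z, hα z]
      rfl
  have hαp : ∀ z, α^[p] z = z := fun z => h.e_inj (by
    rw [hit, ZMod.natCast_self, h.fr_base])
  obtain ⟨x0, hx0, hx0ne⟩ : ∃ x0, α x0 = x0 ∧ x0 ≠ 0 := by
    let σ : Equiv.Perm F := Equiv.ofBijective α (Finite.injective_iff_bijective.1 hαinj)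
    have hσ : σ ^ p ^ 1 = 1 := Equiv.ext fun z => by
      rw [pow_one, Equiv.Perm.coe_pow]; exact hαp z
    exact Equiv.Perm.exists_fixed_point_of_prime' (p := p)
      (hF ▸ dvd_pow_self p hq.out.ne_zero) hσ (a := 0) (h.e_inj (by
        show h.e (α 0) = h.e 0; rw [← hα, h.fr_zero', h.e_zero]))
  set τ : F → F := fun z => α (z * x0) / x0 with hτ
  have hτ1 : τ 1 = 1 := by rw [hτ]; simp only [one_mul, hx0, div_self hx0ne]
  have hτadd : ∀ y z, τ (y + z) = τ y + τ z := fun y z => by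
    simp only [hτ, add_mul, hαadd, add_div]
  have hτw : ∀ w, w ^ h.u = 1 → ∀ z, τ (w * z) = h.th 1 w * τ z := fun w hw z => by
    simp only [hτ, mul_assoc, hαw w hw, mul_div_assoc]
  have hτk : ∀ (k : ZMod p) (z : F), τ (κ k * z) = κ k * τ z := fun k z => by
    rw [← ZMod.natCast_zmod_val k, map_natCast, ← nsmul_eq_mul, ← nsmul_eq_mul]
    exact (AddMonoidHom.mk' τ hτadd).map_nsmul _ _
  have hτmul : ∀ y z, τ (y * z) = τ y * τ z := by
    intro y z
    rcases eq_or_ne y 0 with rfl | hy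
    · have h0 : τ 0 = 0 := (AddMonoidHom.mk' τ hτadd).map_zero
      rw [zero_mul, h0, zero_mul]
    obtain ⟨k, w, -, hw, rfl⟩ := h.decomp hF hcop hy
    have h2 : τ w = h.th 1 w := by
      have := hτw w hw 1
      rw [mul_one, hτ1, mul_one] at this
      exact this
    rw [mul_assoc, hτk, hτw w hw, hτk, h2]
    ring
  let τr : F →+* F :=
    { toFun := τ
      map_one' := hτ1
      map_mul' := hτmul
      map_zero' := (AddMonoidHom.mk' τ hτadd).map_zero
      map_add' := hτadd }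
  have hτc : ∀ k : ZMod p, τr (κ k) = κ k := fun k => by
    have := hτk k 1
    rw [mul_one, hτ1, mul_one] at this
    exact this
  let τa : F ≃ₐ[ZMod p] F := AlgEquiv.ofBijective
    ({ τr with commutes' := hτc } : F →ₐ[ZMod p] F)
    (Finite.injective_iff_bijective.1 τr.injective)
  have hτit : ∀ (j : ℕ) (z : F), τ^[j] z = α^[j] (z * x0) / x0 := by
    intro j
    induction j with
    | zero => intro z; simp [mul_div_assoc, div_self hx0ne]
    | succ j ih =>
      intro z
      rw [Function.iterate_succ_apply, ih, Function.iterate_succ_apply, hτ]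
      simp only [div_mul_cancel₀ _ hx0ne]
  have hτp : τa ^ p = 1 := AlgEquiv.ext fun z => by
    rw [AlgEquiv.coe_pow]
    show τ^[p] z = z
    rw [hτit, hαp, mul_div_assoc, div_self hx0ne, mul_one]
  have hrank : Module.finrank (ZMod p) F = q := by
    have := Module.card_eq_pow_finrank (K := ZMod p) (V := F)
    rw [ZMod.card, hF] at this
    exact (Nat.pow_right_injective hp.out.two_le this).symm
  have hτ1' : τa = 1 := by
    refine orderOf_eq_one_iff.1 (Nat.eq_one_of_dvd_coprimes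
      ((Nat.coprime_primes hp.out hq.out).2 hqp.ne') (orderOf_dvd_of_pow_eq_one hτp) ?_)
    have := orderOf_dvd_natCard τa
    rwa [IsGalois.card_aut_eq_finrank, hrank] at this
  have hαid : ∀ z, α z = z := fun z => by
    have : τ (z / x0) = z / x0 := by
      have := congrArg (fun f : F ≃ₐ[ZMod p] F => f (z / x0)) hτ1'
      exact this
    simp only [hτ, div_mul_cancel₀ _ hx0ne] at this
    field_simp [hx0ne] at this
    exact this
  have hth : ∀ w, w ^ h.u = 1 → h.th 1 w = w := fun w hw => by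
    have := hαw w hw 1
    rw [hαid, hαid, mul_one, mul_one] at this
    exact this.symm
  have hts : h.t = h.e 1 := by
    have hcomm : Commute h.t (h.e 1) := by
      have := hα 1
      rw [hαid, fr, h.tp_one] at this
      exact mul_inv_eq_iff_eq_mul.1 this
    obtain ⟨n, hn⟩ := h.Q_q ⟨_, h.t_mem⟩
    have h1 : (h.t * (h.e 1)⁻¹) ^ q ^ n = 1 := congrArg Subtype.val hn
    have h2 : (h.t * (h.e 1)⁻¹) ^ p = 1 := by
      rw [hcomm.inv_right.mul_pow, h.t_pow, inv_pow, h.e_pow, CharP.cast_eq_zero, zero_mul,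
        h.e_zero, one_mul, inv_one]
    exact mul_inv_eq_one.1 (orderOf_eq_one_iff.1 (Nat.eq_one_of_dvd_coprimes
      (((Nat.coprime_primes hp.out hq.out).2 hqp.ne').pow_right n)
      (orderOf_dvd_of_pow_eq_one h2) (orderOf_dvd_of_pow_eq_one h1)))
  have hc : h.t * h.ρ a * h.t⁻¹ = h.ρ a := by
    have := h.th_spec 1 ha
    rwa [hth a ha, h.tp_one] at this
  have := h.act a ha 1
  rw [← hts, mul_one] at this
  have h2 : h.e a = h.e 1 := by
    rw [← this, ← hts]
    calc h.ρ a * h.t * (h.ρ a)⁻¹ = (h.t * h.ρ a * h.t⁻¹) * h.t * (h.ρ a)⁻¹ := by rw [hc]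
      _ = _ := by group
  exact ha1 (h.e_inj h2)

theorem fr_inter [CharP F p] (hF : Fintype.card F = p ^ q) (hcop : h.u.Coprime (p - 1))
    (hqp : q < p) {a : F} (ha : a ^ h.u = 1) (ha1 : a ≠ 1) {i j : ZMod p} (hij : i ≠ j) {x x' : F}
    (he : h.fr i x = h.fr j x') : x = 0 := by
  by_contra hx
  have h1 : h.fr (i - j) x = h.e x' := by
    have := congrArg (fun g => h.tp (-j) * g * (h.tp (-j))⁻¹) he
    simp only [h.fr_shift, neg_add_cancel, h.fr_base] at this
    rwa [show i - j = -j + i by ring]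
  have hm : ∀ (n : ℕ) (z : F), ∃ z', h.fr ((n : ZMod p) * (i - j)) z = h.e z' := by
    intro n
    induction n with
    | zero => intro z; exact ⟨z, by rw [Nat.cast_zero, zero_mul, h.fr_base]⟩
    | succ n ih =>
      intro z
      obtain ⟨z1, hz1⟩ := ih z
      obtain ⟨z2, hz2⟩ := h.range_conj hF hcop hx h1 z1
      refine ⟨z2, ?_⟩
      rw [Nat.cast_succ, add_mul, one_mul, add_comm, ← h.fr_shift, hz1, ← hz2]
      rfl
  refine h.t_not_norm hF hcop hqp ha ha1 fun z => ?_
  obtain ⟨z', hz'⟩ := hm (i - j)⁻¹.val z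
  rw [ZMod.natCast_zmod_val, inv_mul_cancel₀ (sub_ne_zero.2 hij)] at hz'
  exact ⟨z', hz'⟩

theorem fr_unique [CharP F p] (hF : Fintype.card F = p ^ q) (hcop : h.u.Coprime (p - 1))
    (hqp : q < p) {a : F} (ha : a ^ h.u = 1) (ha1 : a ≠ 1) {i j : ZMod p} (hij : i ≠ j)
    {A A' B B' : F} (he : h.fr i A * h.fr j B = h.fr i A' * h.fr j B') : A = A' ∧ B = B' := by
  have h1 : h.fr i (-A' + A) = h.fr j (B' + -B) := by
    rw [h.fr_add, h.fr_add, h.fr_neg, h.fr_neg]
    calc (h.fr i A')⁻¹ * h.fr i A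
        = (h.fr i A')⁻¹ * (h.fr i A * h.fr j B) * (h.fr j B)⁻¹ := by group
      _ = _ := by rw [he]; group
  have h2 := h.fr_inter hF hcop hqp ha ha1 hij h1
  have h3 := h.fr_inter hF hcop hqp ha ha1 hij.symm h1.symm
  exact ⟨by linear_combination h2, by linear_combination -h3⟩

theorem Wt_scalar [CharP F p] (hF : Fintype.card F = p ^ q) (hcop : h.u.Coprime (p - 1))
    (hqp : q < p) {a : F} (ha : a ^ h.u = 1) (ha1 : a ≠ 1) {c k : ZMod p} (hc : c ≠ -c) {w : F}
    (hw : w ^ h.u = 1) (hW : h.Wt c (κ k * w)) :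
    ∃ l r : ZMod p, h.sp (c * k) = h.fr c (κ l) * h.fr (-c) (κ r) := by
  obtain ⟨A, B, h1, h2⟩ := hW
  have key : ∀ {w A B : F}, w ^ h.u = 1 → h.e (κ c * (κ k * w)) = h.fr c A * h.fr (-c) B →
      h.sp (c * k) = h.fr c (h.th (-c) w⁻¹ * A) * h.fr (-c) (h.th c w⁻¹ * B) := by
    intro w A B hw e
    rw [sp, map_mul, show κ c * κ k = w⁻¹ * (κ c * (κ k * w)) by
        field_simp [h.ne_zero_U hw], ← h.act _ (h.inv_U hw), e]
    have e1 := h.fr_conj c (h.inv_U hw) A
    have e2 := h.fr_conj (-c) (h.inv_U hw) B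
    rw [neg_neg] at e2
    rw [← e1, ← e2]
    group
  have hp1 : (κ k * w) ^ p = κ k * w ^ p := by rw [mul_pow, h.κ_pow]
  rw [hp1] at h2
  have k1 := key hw h1
  have k2 := key (h.pow_U hw p) h2
  have hi : (w ^ p)⁻¹ = w⁻¹ ^ p := (inv_pow w p).symm
  rw [hi, h.th_pow _ (h.inv_U hw), h.th_pow _ (h.inv_U hw), ← mul_pow, ← mul_pow] at k2
  obtain ⟨eA, eB⟩ := h.fr_unique hF hcop hqp ha ha1 hc (k2.symm.trans k1)
  obtain ⟨l, hl⟩ := mem_range_of_pow_eq (p := p) eA
  obtain ⟨r, hr⟩ := mem_range_of_pow_eq (p := p) eB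
  exact ⟨(l : ZMod p), (r : ZMod p), by rw [k1, map_natCast, map_natCast, hl, hr]⟩

theorem d_one_ne [CharP F p] {a : F} (ha : a ^ h.u = 1) (ha1 : a ≠ 1) : h.d 1 ≠ 1 := by
  intro hd
  have hts : h.t = h.e 1 := by
    have := h.d_spec 1
    rw [hd, one_mul, h.tp_one, h.sp_one] at this
    exact this
  obtain ⟨w', hw', e⟩ := h.t_norm a ha
  rw [hts] at e
  -- applied to a translation, `e 1` acts trivially
  have h2 : h.e (w' * 1) = h.e (a * 1) := by
    rw [← h.act _ hw', ← h.act _ ha, ← e]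
    calc h.e 1 * h.ρ a * (h.e 1)⁻¹ * h.e 1 * (h.e 1 * h.ρ a * (h.e 1)⁻¹)⁻¹
        = h.e 1 * (h.ρ a * h.e 1 * (h.ρ a)⁻¹) * (h.e 1)⁻¹ := by group
      _ = _ := by rw [h.act _ ha, mul_inv_eq_iff_eq_mul, h.e_comm]
  have h3 : w' = a := by simpa using h.e_inj h2
  rw [h3] at e
  have h4 : h.ρ a * h.e 1 * (h.ρ a)⁻¹ = h.e 1 := by
    rw [mul_inv_eq_iff_eq_mul]
    exact (mul_inv_eq_iff_eq_mul.1 e).symm
  rw [h.act _ ha, mul_one] at h4
  exact ha1 (h.e_inj h4)

/-- The exponential form of the relations in `⟨Q, s⟩`. -/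
theorem exists_root [CharP F p] (hqp : q < p) {a : F} (ha : a ^ h.u = 1) (ha1 : a ≠ 1) :
    ∃ (K : Type) (_ : Field K) (_ : CharP K q) (z : ZMod p → K),
      (∀ i j, z (i + j) = z i * z j) ∧ (∀ i, z i = 1 ↔ i = 0) ∧
      ∀ c k l r : ZMod p, c ≠ 0 → h.sp (c * k) = h.fr c (κ l) * h.fr (-c) (κ r) →
        z l * (1 + z c) = z c + z (c * k) := by
  classical
  letI : CommGroup h.Q :=
    { (inferInstance : Group h.Q) with mul_comm := fun x y => Subtype.ext (h.Q_comm _ x.2 _ y.2) }
  let S : AddMonoid.End (Additive h.Q) :=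
    AddMonoidHom.mk' (fun x => Additive.ofMul (⟨h.e 1 * (x.toMul : G) * (h.e 1)⁻¹,
      h.Q_conj _ x.toMul.2⟩ : h.Q)) fun x y => by
      refine congrArg Additive.ofMul (Subtype.ext ?_)
      show h.e 1 * ((x.toMul : G) * (y.toMul : G)) * (h.e 1)⁻¹ = _
      simp [mul_assoc]
  let φ : ℤ[X] →ₐ[ℤ] AddMonoid.End (Additive h.Q) := aeval S
  let dd : ZMod p → Additive h.Q := fun k => Additive.ofMul ⟨h.d k, h.d_mem k⟩
  have hSn : ∀ (n : ℕ) (x : Additive h.Q),
      (((S ^ n) x).toMul : G) = h.sp n * (x.toMul : G) * (h.sp n)⁻¹ := by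
    intro n
    induction n with
    | zero => intro x; simp [h.sp_zero]
    | succ n ih =>
      intro x
      rw [pow_succ']
      show h.e 1 * (((S ^ n) x).toMul : G) * (h.e 1)⁻¹ = _
      rw [ih, Nat.cast_succ, add_comm, h.sp_add, h.sp_one]
      group
  have hXn : ∀ (k : ZMod p) (x : Additive h.Q),
      ((φ (X ^ k.val) x).toMul : G) = h.sp k * (x.toMul : G) * (h.sp k)⁻¹ := by
    intro k x
    rw [map_pow, show φ X = S from aeval_X S, hSn, ZMod.natCast_zmod_val]
  have hφa : ∀ (f g : ℤ[X]) x, φ (f + g) x = φ f x + φ g x := fun f g x => by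
    rw [map_add]; rfl
  have hφs : ∀ (f g : ℤ[X]) x, φ (f - g) x = φ f x - φ g x := fun f g x => by
    rw [map_sub]; rfl
  have hgen : ∀ n : ℕ, φ (∑ j ∈ Finset.range n, X ^ j) (dd 1) = dd (n : ZMod p) := by
    intro n
    induction n with
    | zero =>
      rw [Finset.range_zero, Finset.sum_empty, map_zero, Nat.cast_zero]
      exact Additive.toMul.injective (Subtype.ext h.d_zero.symm)
    | succ n ih =>
      rw [Finset.sum_range_succ, hφa, ih, Nat.cast_succ]
      refine Additive.toMul.injective (Subtype.ext ?_)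
      rw [map_pow, show φ X = S from aeval_X S]
      show h.d n * (((S ^ n) (dd 1)).toMul : G) = h.d ((n : ZMod p) + 1)
      rw [hSn, h.d_cocycle]
      rfl
  let I : Ideal ℤ[X] :=
    { carrier := {f | φ f (dd 1) = 0}
      add_mem' := fun {f g} hf hg => by
        show φ (f + g) (dd 1) = 0
        rw [hφa, hf, hg, add_zero]
      zero_mem' := by show φ 0 (dd 1) = 0; rw [map_zero]; rfl
      smul_mem' := fun g f hf => by
        show φ (g * f) (dd 1) = 0
        rw [map_mul]
        show φ g (φ f (dd 1)) = 0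
        rw [hf, map_zero] }
  have hI : I ≠ ⊤ := fun e => by
    have : (1 : ℤ[X]) ∈ I := by rw [e]; trivial
    have h1 : φ 1 (dd 1) = 0 := this
    rw [map_one] at h1
    exact h.d_one_ne ha ha1 (congrArg (fun x : Additive h.Q => (x.toMul : G)) h1)
  obtain ⟨M, hM, hIM⟩ := Ideal.exists_le_maximal I hI
  letI := Ideal.Quotient.field M
  let π : ℤ[X] →+* ℤ[X] ⧸ M := Ideal.Quotient.mk M
  have hπ : ∀ f : ℤ[X], φ f (dd 1) = 0 → π f = 0 := fun f hf =>
    Ideal.Quotient.eq_zero_iff_mem.2 (hIM hf)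
  have hq0 : (q : ℤ[X] ⧸ M) = 0 := by
    obtain ⟨n, hn⟩ := h.Q_q ⟨h.d 1, h.d_mem 1⟩
    have h1 : π ((q ^ n : ℕ) : ℤ[X]) = 0 := hπ _ (by
      rw [map_natCast]
      show (q ^ n) • dd 1 = 0
      exact Additive.toMul.injective hn)
    rw [map_natCast, Nat.cast_pow] at h1
    exact pow_eq_zero_iff'.1 h1 |>.1
  haveI hchar : CharP (ℤ[X] ⧸ M) q := (CharP.charP_iff_prime_eq_zero hq.out).2 hq0
  set ζ := π X with hζdef
  have hgp : ∑ j ∈ Finset.range p, ζ ^ j = 0 := by
    have := hπ (∑ j ∈ Finset.range p, X ^ j) (by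
      rw [hgen, ZMod.natCast_self]
      exact Additive.toMul.injective (Subtype.ext h.d_zero))
    simpa [map_sum] using this
  have hζp : ζ ^ p = 1 := by
    have := geom_sum_mul ζ p
    rw [hgp, zero_mul] at this
    exact sub_eq_zero.1 this.symm
  have hζ1 : ζ ≠ 1 := fun e => by
    rw [e] at hgp
    simp only [one_pow, Finset.sum_const, Finset.card_range, nsmul_eq_mul, mul_one] at hgp
    exact hqp.ne ((Nat.prime_dvd_prime_iff_eq hq.out hp.out).1
      ((CharP.cast_eq_zero_iff _ q p).1 hgp))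
  refine ⟨ℤ[X] ⧸ M, inferInstance, hchar, fun i => ζ ^ i.val, fun i j => ?_, fun i => ?_, ?_⟩
  · simp only [ZMod.val_add, ← pow_eq_pow_mod _ hζp, pow_add]
  · refine ⟨fun e => ?_, fun e => by simp [e]⟩
    by_contra hi
    exact hζ1 (orderOf_eq_one_iff.1 (Nat.eq_one_of_dvd_coprimes
      ((hp.out.coprime_iff_not_dvd).2 fun hd =>
        hi ((ZMod.val_eq_zero i).1 (Nat.eq_zero_of_dvd_of_lt hd (ZMod.val_lt i))))
      (orderOf_dvd_of_pow_eq_one hζp) (orderOf_dvd_of_pow_eq_one e)))
  intro c k l r hc he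
  rw [h.fr_sp, h.fr_sp] at he
  -- the translation parts agree
  set u1 := h.d c * (h.sp l * (h.d c)⁻¹ * (h.sp l)⁻¹) with hu1
  set u2 := h.d (-c) * (h.sp r * (h.d (-c))⁻¹ * (h.sp r)⁻¹) with hu2
  set Y := u1 * (h.sp l * u2 * (h.sp l)⁻¹) with hY
  have hYmem : Y ∈ h.Q := mul_mem (mul_mem (h.d_mem c) (h.sp_conj_mem (inv_mem (h.d_mem c)) l))
    (h.sp_conj_mem (mul_mem (h.d_mem (-c)) (h.sp_conj_mem (inv_mem (h.d_mem (-c))) r)) l)
  have hYe : Y = h.sp (c * k - (l + r)) := by
    rw [sub_eq_add_neg, h.sp_add, h.sp_neg, he, h.sp_add, hY]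
    group
  have hlr : c * k = l + r := by
    obtain ⟨n, hn⟩ := h.Q_q ⟨Y, hYmem⟩
    have h1 : Y ^ q ^ n = 1 := congrArg Subtype.val hn
    have h2 : Y ^ p = 1 := by rw [hYe, sp, h.e_pow, CharP.cast_eq_zero, zero_mul, h.e_zero]
    have h3 : Y = 1 := orderOf_eq_one_iff.1 (Nat.eq_one_of_dvd_coprimes
      (((Nat.coprime_primes hp.out hq.out).2 hqp.ne').pow_right n)
      (orderOf_dvd_of_pow_eq_one h2) (orderOf_dvd_of_pow_eq_one h1))
    rw [hYe, ← h.sp_zero, sp, sp] at h3
    exact sub_eq_zero.1 ((algebraMap (ZMod p) F).injective (h.e_inj h3))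
  have hY1 : Y = 1 := by rw [hYe, hlr, sub_self, h.sp_zero]
  have hpoly : φ ((∑ j ∈ Finset.range c.val, X ^ j) * (1 - X ^ l.val) +
      (∑ j ∈ Finset.range (-c).val, X ^ j) * (X ^ l.val - X ^ (c * k).val)) (dd 1) = 0 := by
    rw [mul_comm (∑ j ∈ Finset.range c.val, X ^ j), mul_comm (∑ j ∈ Finset.range (-c).val, X ^ j),
      hφa, map_mul, map_mul]
    show φ _ (φ _ (dd 1)) + φ _ (φ _ (dd 1)) = 0
    rw [hgen, hgen, ZMod.natCast_zmod_val, ZMod.natCast_zmod_val, hφs, hφs, map_one, sub_eq_add_neg, sub_eq_add_neg]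
    refine Additive.toMul.injective (Subtype.ext ?_)
    show h.d c * ((φ (X ^ l.val) (dd c)).toMul : G)⁻¹ *
      (((φ (X ^ l.val) (dd (-c))).toMul : G) * ((φ (X ^ (c * k).val) (dd (-c))).toMul : G)⁻¹) = 1
    rw [hXn, hXn, hXn, hlr, h.sp_add]
    show h.d c * (h.sp l * h.d c * (h.sp l)⁻¹)⁻¹ *
      (h.sp l * h.d (-c) * (h.sp l)⁻¹ * (h.sp l * h.sp r * h.d (-c) * (h.sp l * h.sp r)⁻¹)⁻¹) = 1
    rw [← hY1, hY, hu1, hu2]
    group
  have hK := hπ _ hpoly
  simp only [map_add, map_mul, map_sub, map_one, map_sum, map_pow, ← hζdef] at hK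
  have g1 := geom_sum_mul ζ c.val
  have g2 := geom_sum_mul ζ (-c).val
  have hcc : ζ ^ c.val * ζ ^ (-c).val = 1 := by
    have h0 : (c + -c).val = 0 := by rw [add_neg_cancel, ZMod.val_zero]
    rw [← pow_add, pow_eq_pow_mod _ hζp, ← ZMod.val_add, h0, pow_zero]
  have hc1 : ζ ^ c.val - 1 ≠ 0 := by
    rw [sub_ne_zero]
    intro e
    exact hζ1 (orderOf_eq_one_iff.1 (Nat.eq_one_of_dvd_coprimes
      ((hp.out.coprime_iff_not_dvd).2 fun hd =>
        hc ((ZMod.val_eq_zero c).1 (Nat.eq_zero_of_dvd_of_lt hd (ZMod.val_lt c))))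
      (orderOf_dvd_of_pow_eq_one hζp) (orderOf_dvd_of_pow_eq_one e)))
  refine mul_left_cancel₀ hc1 ?_
  linear_combination (-(ζ - 1) * ζ ^ c.val) * hK + (ζ ^ c.val * (1 - ζ ^ l.val)) * g1 +
    (ζ ^ c.val * (ζ ^ l.val - ζ ^ (c * k).val)) * g2 + (ζ ^ l.val - ζ ^ (c * k).val) * hcc

theorem Wt_line [CharP F p] (hp2 : p ≠ 2) {a : F} (ha : a ^ h.u = 1)
    (ha' : (2 - a) ^ h.u = 1) (c t : ZMod p) : h.Wt c (2 * (1 + κ t * (a - 1))) := by
  have h1 : ∀ t, h.Wt c (2 * (1 + κ t * (a - 1))) → h.Wt c (2 * (1 + κ (-1 - t) * (a - 1))) := by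
    intro t ht
    have := h.Wt_reflect (l := 2 * t + 1) ha' h.one_U (by
      convert ht using 1
      simp only [map_sub, map_add, map_mul, map_one, map_ofNat]
      ring)
    convert this using 1
    simp only [map_sub, map_add, map_mul, map_one, map_ofNat, map_neg]
    ring
  have h2 : ∀ t, h.Wt c (2 * (1 + κ t * (a - 1))) → h.Wt c (2 * (1 + κ (1 - t) * (a - 1))) := by
    intro t ht
    have := h.Wt_reflect (l := 2 * t - 1) h.one_U ha (by
      convert ht using 1
      simp only [map_sub, map_add, map_mul, map_one, map_ofNat]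
      ring)
    convert this using 1
    simp only [map_sub, map_add, map_mul, map_one, map_ofNat, map_neg]
    ring
  have h3 : ∀ n : ℕ, h.Wt c (2 * (1 + κ ((2 : ZMod p) * n) * (a - 1))) := by
    intro n
    induction n with
    | zero =>
      convert h.Wt_two c using 1
      simp
    | succ n ih =>
      have := h2 _ (h1 _ ih)
      rwa [show (1 : ZMod p) - (-1 - 2 * n) = 2 * ((n + 1 : ℕ) : ZMod p) by
        push_cast; ring] at this
  have h20 : (2 : ZMod p) ≠ 0 := by
    intro e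
    have := (ZMod.natCast_eq_zero_iff 2 p).1 (by exact_mod_cast e)
    exact hp2 ((Nat.prime_dvd_prime_iff_eq hp.out Nat.prime_two).1 this)
  have h4 := h3 (t / 2).val
  rwa [ZMod.natCast_zmod_val, mul_div_cancel₀ _ h20] at h4

end Conf

theorem mem_gam_of_eq {K : Type} [Field K] [CharP K q] (hqp : q < p) (z : ZMod p → K)
    (hadd : ∀ i j, z (i + j) = z i * z j) (hone : ∀ i, z i = 1 ↔ i = 0) {D : ZMod p}
    (hD : ∀ c : ZMod p, c ≠ 0 → (1 + z (c * D)) ^ p = (1 + z c) ^ p) : D ∈ gam p q := by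
  classical
  have hz0 : z 0 = 1 := (hone 0).2 rfl
  have hzn : ∀ (n : ℕ) (i : ZMod p), z (n * i) = z i ^ n := by
    intro n i
    induction n with
    | zero => rw [Nat.cast_zero, zero_mul, hz0, pow_zero]
    | succ n ih => rw [Nat.cast_succ, add_mul, one_mul, hadd, ih, pow_succ]
  have hsum0 : ∀ i : ZMod p, i ≠ 0 → ∑ c, z (c * i) = 0 := by
    intro i hi
    have : z i * ∑ c, z (c * i) = ∑ c, z (c * i) := by
      rw [Finset.mul_sum]
      refine Fintype.sum_equiv (Equiv.addRight 1) _ _ fun c => ?_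
      rw [← hadd, Equiv.coe_addRight]; ring_nf
    have h' : (z i - 1) * ∑ c, z (c * i) = 0 := by rw [sub_mul, this, one_mul, sub_self]
    exact (mul_eq_zero.1 h').resolve_left (sub_ne_zero.2 fun e => hi ((hone i).1 e))
  have hinv : ∀ f : ZMod p → K, (∀ c, ∑ j, f j * z (c * j) = 0) → ∀ i, f i = 0 := by
    intro f hf i
    have h0 : ∑ c, z (c * -i) * ∑ j, f j * z (c * j) = 0 := by simp [hf]
    simp only [Finset.mul_sum] at h0
    rw [Finset.sum_comm, Finset.sum_eq_single i] at h0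
    · have e : ∀ c : ZMod p, z (c * -i) * (f i * z (c * i)) = f i := fun c => by
        rw [mul_left_comm, ← hadd, ← mul_add, neg_add_cancel, mul_zero, hz0, mul_one]
      simp only [e, Finset.sum_const, Finset.card_univ, ZMod.card, nsmul_eq_mul] at h0
      refine (mul_eq_zero.1 h0).resolve_left fun e => ?_
      exact hqp.ne ((Nat.prime_dvd_prime_iff_eq hq.out hp.out).1
        ((CharP.cast_eq_zero_iff _ q p).1 e))
    · intro j _ hji
      have e : ∀ c : ZMod p, z (c * -i) * (f j * z (c * j)) = f j * z (c * (j - i)) := fun c => by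
        rw [mul_left_comm, ← hadd, ← mul_add, neg_add_eq_sub]
      simp only [e, ← Finset.mul_sum, hsum0 _ (sub_ne_zero.2 hji), mul_zero]
    · simp
  set φ : ZMod p → K := fun j => if j = 0 then 2 else (p.choose j.val : K) with hφ
  have hexp : ∀ c, (1 + z c) ^ p = ∑ j, φ j * z (c * j) := by
    intro c
    rw [add_comm, add_pow, Finset.sum_range_succ]
    simp only [one_pow, mul_one, Nat.choose_self, Nat.cast_one]
    have e : z c ^ p = 1 := by rw [← hzn, ZMod.natCast_self, zero_mul, hz0]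
    rw [e]
    have e2 : ∑ m ∈ Finset.range p, z c ^ m * (p.choose m : K) =
        ∑ j : ZMod p, (p.choose j.val : K) * z (c * j) := by
      refine Finset.sum_bij' (fun m _ => (m : ZMod p)) (fun j _ => j.val)
        (fun m _ => Finset.mem_univ _) (fun j _ => Finset.mem_range.2 (ZMod.val_lt j))
        (fun m hm => ZMod.val_natCast_of_lt (Finset.mem_range.1 hm))
        (fun j _ => ZMod.natCast_zmod_val j) fun m hm => ?_
      rw [ZMod.val_natCast_of_lt (Finset.mem_range.1 hm), mul_comm c, hzn, mul_comm]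
    rw [e2, ← Finset.add_sum_erase _ _ (Finset.mem_univ (0 : ZMod p)),
      ← Finset.add_sum_erase _ (fun j => φ j * z (c * j)) (Finset.mem_univ (0 : ZMod p)),
      mul_zero, hz0]
    have e3 : ∀ j ∈ Finset.univ.erase (0 : ZMod p),
        (p.choose j.val : K) * z (c * j) = φ j * z (c * j) := fun j hj => by
      rw [hφ]; simp only [if_neg (Finset.ne_of_mem_erase hj)]
    rw [Finset.sum_congr rfl e3]
    simp only [hφ, if_pos, ZMod.val_zero, Nat.choose_zero_right, Nat.cast_one]
    ring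
  have hpK : (p : K) ≠ 0 := fun e => hqp.ne ((Nat.prime_dvd_prime_iff_eq hq.out hp.out).1
    ((CharP.cast_eq_zero_iff _ q p).1 e))
  have hD0 : D ≠ 0 := by
    intro e
    subst e
    have := hinv (fun j => φ j - if j = 0 then (2 : K) ^ p else 0) (fun c => by
      simp only [sub_mul, Finset.sum_sub_distrib, ← hexp, ite_mul, zero_mul, Finset.sum_ite_eq',
        Finset.mem_univ, if_true, mul_zero, hz0, mul_one]
      rcases eq_or_ne c 0 with rfl | hc
      · rw [hz0, one_add_one_eq_two, sub_self]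
      · rw [← hD c hc, mul_zero, hz0, one_add_one_eq_two, sub_self]) 1
    simp only [one_ne_zero, if_false, sub_zero, hφ, ZMod.val_one, Nat.choose_one_right] at this
    exact hpK this
  have hinv' := hinv (fun j => φ (D⁻¹ * j) - φ j) fun c => by
    have e : ∑ j, φ (D⁻¹ * j) * z (c * j) = ∑ j, φ j * z (c * D * j) := by
      refine Fintype.sum_equiv (Equiv.mulLeft₀ D⁻¹ (inv_ne_zero hD0)) _ _ fun j => ?_
      simp [mul_assoc, ← mul_assoc D, mul_inv_cancel₀ hD0]
    simp only [sub_mul, Finset.sum_sub_distrib, e, ← hexp]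
    rcases eq_or_ne c 0 with rfl | hc
    · rw [zero_mul, sub_self]
    · rw [hD c hc, sub_self]
  refine mem_gam.2 ⟨hD0, fun j hj => ?_⟩
  have h1 := hinv' (D * j)
  rw [← mul_assoc, inv_mul_cancel₀ hD0, one_mul, sub_eq_zero] at h1
  simp only [hφ, if_neg hj, if_neg (mul_ne_zero hD0 hj)] at h1
  apply (ZMod.castHom (dvd_refl q) K).injective
  simp only [coef, map_natCast]
  exact h1.symm

/-- The configuration is impossible. -/
theorem Conf.false [CharP F p] (hF : Fintype.card F = p ^ q) (hq2 : q ≠ 2) (hqp : q < p)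
    (hcop : h.u.Coprime (p - 1)) : False := by
  classical
  have hu := h.u_eq
  have hp1 : p % q ≠ 1 := by
    intro e
    have h1 : q ∣ h.u := by
      rw [← ZMod.natCast_eq_zero_iff, hu, Nat.cast_sum]
      have : (p : ZMod q) = 1 := by rw [← ZMod.natCast_mod, e, Nat.cast_one]
      simp [this]
    have h2 : q ∣ p - 1 := by
      have := Nat.dvd_sub_mod (n := q) p
      rwa [e] at this
    exact hq.out.ne_one (Nat.eq_one_of_dvd_coprimes hcop h1 h2)
  have hp2 : p ≠ 2 := by have := hq.out.two_le; omega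
  obtain ⟨a, ha1, ha, ha'⟩ : ∃ a : F, a ≠ 1 ∧ a ^ h.u = 1 ∧ (2 - a) ^ h.u = 1 := by
    have h2 := hq.out.two_le
    by_cases hq5 : 5 ≤ q
    · exact exists_pair_large hF hq5 hqp h.u_mul
    · have hq3 : q = 3 := by
        rcases (show q = 3 ∨ q = 4 by omega) with e | e
        · exact e
        · exact absurd (hq.out.eq_two_or_odd.resolve_left hq2) (by omega)
      have e : h.u = 1 + p + p ^ 2 := by
        rw [hu, hq3, Finset.sum_range_succ, Finset.sum_range_succ, Finset.sum_range_succ,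
          Finset.sum_range_zero]
        ring
      rw [e]
      exact exists_pair_three (p := p) (by rw [hF, hq3]) (by omega)
  obtain ⟨K, iK, iKq, z, hadd, hone, hrel⟩ := h.exists_root hqp ha ha1
  have h20 : (2 : F) ≠ 0 := by
    intro e
    have := (CharP.cast_eq_zero_iff F p 2).1 (by exact_mod_cast e)
    exact hp2 ((Nat.prime_dvd_prime_iff_eq hp.out Nat.prime_two).1 this)
  set ε := a - 1 with hε
  have hε0 : ε ≠ 0 := sub_ne_zero.2 ha1
  have hzne : ∀ t : ZMod p, 2 * (1 + κ t * ε) ≠ 0 := by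
    intro t e
    rcases mul_eq_zero.1 e with e | e
    · exact h20 e
    have ht : t ≠ 0 := by
      rintro rfl
      simp at e
    have hκt : κ t ≠ 0 := by rw [Ne, map_eq_zero]; exact ht
    have haK : a = κ (1 - t⁻¹) := by
      rw [map_sub, map_one, map_inv₀]
      field_simp
      rw [hε] at e
      linear_combination e
    have hpu : (1 - t⁻¹ : ZMod p) ^ h.u = 1 := (algebraMap (ZMod p) F).injective (by
      rw [map_pow, ← haK, ha, map_one])
    have hne : (1 - t⁻¹ : ZMod p) ≠ 0 := fun e0 => by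
      rw [e0, zero_pow h.u_pos.ne'] at hpu
      exact zero_ne_one hpu
    have h1 : (1 - t⁻¹ : ZMod p) = 1 := orderOf_eq_one_iff.1 (Nat.eq_one_of_dvd_coprimes hcop
      (orderOf_dvd_of_pow_eq_one hpu) (orderOf_dvd_of_pow_eq_one
        (ZMod.pow_card_sub_one_eq_one hne)))
    exact ha1 (by rw [haK, h1, map_one])
  choose k w hk hw hkw using fun t : ZMod p => h.decomp hF hcop (hzne t)
  have hmem : ∀ t, k t - 1 ∈ (gam p q).erase (-1) := by
    intro t
    refine Finset.mem_erase.2 ⟨fun e => hk t (by linear_combination e),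
      mem_gam_of_eq hqp z hadd hone fun c hc => ?_⟩
    have hW := h.Wt_line hp2 ha ha' c t
    rw [← hε, hkw t] at hW
    obtain ⟨l, r, he⟩ := h.Wt_scalar hF hcop hqp ha ha1 (fun e => hc (by
      have h2c : (2 : ZMod p) * c = 0 := by linear_combination e
      refine (mul_eq_zero.1 h2c).resolve_left fun e2 => ?_
      have := (ZMod.natCast_eq_zero_iff 2 p).1 (by exact_mod_cast e2)
      exact hp2 ((Nat.prime_dvd_prime_iff_eq hp.out Nat.prime_two).1 this))) (hw t) hW
    have h1 := hrel c (k t) l r hc he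
    have hzp : ∀ i, z i ^ p = 1 := by
      intro i
      have : ∀ n : ℕ, z i ^ n = z (n * i) := fun n => by
        induction n with
        | zero => rw [Nat.cast_zero, zero_mul, (hone 0).2 rfl, pow_zero]
        | succ n ih => rw [Nat.cast_succ, add_mul, one_mul, hadd, ← ih, pow_succ]
      rw [this, ZMod.natCast_self, zero_mul, (hone 0).2 rfl]
    have h2 : z l * (1 + z c) = z c * (1 + z (c * (k t - 1))) := by
      rw [h1, mul_add, mul_one, ← hadd]
      congr 2
      ring
    have h3 := congrArg (· ^ p) h2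
    simp only [mul_pow, hzp, one_mul] at h3
    exact h3.symm
  -- the norm polynomial
  set P : F[X] := ∏ j ∈ Finset.range q, (C (2 * ε ^ p ^ j) * X + C 2) with hP
  have hPdeg : P.natDegree = q := by
    have hf : ∀ j, (C (2 * ε ^ p ^ j) * X + C (2 : F)).natDegree = 1 := fun j =>
      natDegree_linear (mul_ne_zero h20 (pow_ne_zero _ hε0))
    rw [hP, natDegree_prod]
    · rw [Finset.sum_congr rfl fun j _ => hf j]; simp
    · intro j _ e
      have := hf j
      rw [e, natDegree_zero] at this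
      exact zero_ne_one this
  have hPev : ∀ t : ZMod p, P.eval (κ t) = κ (k t ^ h.u) := by
    intro t
    have h1 : (2 * (1 + κ t * ε)) ^ h.u = κ (k t ^ h.u) := by
      rw [hkw t, mul_pow, hw t, mul_one, map_pow]
    rw [← h1, hu, ← Finset.prod_pow_eq_pow_sum, hP, eval_prod]
    refine Finset.prod_congr rfl fun j _ => ?_
    have e2 : (2 : F) ^ p ^ j = 2 := by
      rw [← map_ofNat (algebraMap (ZMod p) F) 2, ← map_pow, ZMod.pow_card_pow]
    rw [mul_pow, add_pow_char_pow, one_pow, mul_pow, e2, ← map_pow, ZMod.pow_card_pow]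
    simp only [eval_add, eval_mul, eval_C, eval_X]
    ring
  set V : Finset F := ((gam p q).erase (-1)).image fun D => κ ((D + 1) ^ h.u) with hV
  have hcount : (Finset.univ : Finset (ZMod p)).card ≤ q * V.card := by
    refine Finset.card_le_mul_card_image_of_maps_to (f := fun t => κ (k t ^ h.u)) ?_ q ?_
    · intro t _
      exact Finset.mem_image.2 ⟨k t - 1, hmem t, by rw [sub_add_cancel]⟩
    · intro v _
      have hne : P - C v ≠ 0 := by
        intro e
        have := congrArg natDegree (sub_eq_zero.1 e)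
        rw [hPdeg, natDegree_C] at this
        exact hq.out.ne_zero this
      refine le_trans (le_of_eq (Finset.card_image_of_injective _
        (algebraMap (ZMod p) F).injective).symm) ((Polynomial.card_le_degree_of_subset_roots
        (p := P - C v) fun y hy => ?_).trans (le_of_eq (by rw [natDegree_sub_C, hPdeg])))
      rw [Finset.mem_val, Finset.mem_image] at hy
      obtain ⟨t, ht, rfl⟩ := hy
      rw [mem_roots hne, IsRoot, eval_sub, eval_C, hPev, (Finset.mem_filter.1 ht).2, sub_self]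
  have hVle : V.card ≤ (gam p q).card - 1 := by
    refine Finset.card_image_le.trans ?_
    rw [Finset.card_erase_of_mem gam_neg_one]
  rw [Finset.card_univ, ZMod.card] at hcount
  exact gam_small hq2 hqp hp1 (hcount.trans (Nat.mul_le_mul_left q hVle))

end Cfsg.Agent.AppC
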