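import Mathlib

set_option autoImplicit false
set_option linter.style.haveILetI false

/-!
In a field of `p ^ q` elements some element `a ≠ 1` has norm one together with `2 - a`.
-/

namespace Cfsg.Agent.AppC

open Finset Polynomial

variable {p q : ℕ} [hp : Fact p.Prime] [hq : Fact q.Prime]
variable {F : Type} [Field F] [Fintype F] [CharP F p]

theorem mem_range_of_pow_eq {x : F} (hx : x ^ p = x) : ∃ k : ℕ, (k : F) = x := by
  classical
  by_contra hcon
  simp only [not_exists] at hcon
  set S : Finset F := insert x ((range p).image fun k : ℕ => (k : F)) with hS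
  have hP : (X ^ p - X : F[X]) ≠ 0 := FiniteField.X_pow_card_sub_X_ne_zero F hp.out.one_lt
  have hcard : S.card = p + 1 := by
    rw [hS, card_insert_of_notMem, card_image_of_injOn, card_range]
    · intro a ha b hb h
      simp only [coe_range, Set.mem_Iio] at ha hb
      have := (CharP.natCast_eq_natCast F p).1 h
      rwa [Nat.ModEq, Nat.mod_eq_of_lt ha, Nat.mod_eq_of_lt hb] at this
    · simp only [mem_image, mem_range, not_exists, not_and]
      exact fun k _ => hcon k
  have hfix : ∀ k : ℕ, (k : F) ^ p = (k : F) := fun k => by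
    have := map_natCast (frobenius F p) k
    rwa [frobenius_def] at this
  have hle : S.card ≤ p := by
    refine le_trans ?_ (le_of_eq (FiniteField.X_pow_card_sub_X_natDegree_eq F hp.out.one_lt))
    refine Polynomial.card_le_degree_of_subset_roots fun y hy => ?_
    rw [mem_roots hP]
    simp only [hS, mem_insert, mem_image, Finset.insert_val, Multiset.mem_ndinsert] at hy
    rcases hy with rfl | hy
    · simp [hx]
    · obtain ⟨k, -, rfl⟩ := (Finset.mem_image (s := range p) (f := fun k : ℕ => (k : F))).1 hy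
      simp [hfix]
  omega

theorem exists_pair_three (hF : Fintype.card F = p ^ 3) (hp3 : 3 < p) :
    ∃ a : F, a ≠ 1 ∧ a ^ (1 + p + p ^ 2) = 1 ∧ (2 - a) ^ (1 + p + p ^ 2) = 1 := by
  classical
  letI : Algebra (ZMod p) F := ZMod.algebra F p
  have h20 : (2 : ZMod p) ≠ 0 := by
    intro e
    have := (ZMod.natCast_eq_zero_iff 2 p).1 (by exact_mod_cast e)
    exact absurd (Nat.le_of_dvd (by norm_num) this) (by omega)
  set bad : Finset (ZMod p) := ((univ.erase 0).erase 2).image
    fun r => -(r ^ 3 - 3 * r - 1) * (r ^ 2 - 2 * r)⁻¹ with hbad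
  obtain ⟨c, hc⟩ : ∃ c, c ∉ bad := by
    by_contra hcon
    simp only [not_exists, not_not] at hcon
    have h1 : (univ : Finset (ZMod p)).card ≤ bad.card := card_le_card fun c _ => hcon c
    have h2 : bad.card ≤ ((univ.erase 0).erase (2 : ZMod p)).card := card_image_le
    rw [card_erase_of_mem (mem_erase.2 ⟨h20, mem_univ _⟩), card_erase_of_mem (mem_univ _)] at h2
    rw [card_univ, ZMod.card] at h1 h2
    omega
  set f : (ZMod p)[X] := X ^ 3 + C c * X ^ 2 - C (3 + 2 * c) * X - 1 with hf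
  have hdeg : f.natDegree = 3 := by rw [hf]; compute_degree!
  have hmon : f.Monic := by rw [hf]; monicity!
  have hroot : ∀ r : ZMod p, f.eval r ≠ 0 := by
    intro r hr
    have he : r ^ 3 + c * r ^ 2 - (3 + 2 * c) * r - 1 = 0 := by simpa [hf] using hr
    by_cases h0 : r = 0
    · subst h0; norm_num at he
    by_cases h2 : r = 2
    · subst h2
      exact one_ne_zero (α := ZMod p) (by linear_combination he)
    refine hc (mem_image.2 ⟨r, mem_erase.2 ⟨h2, mem_erase.2 ⟨h0, mem_univ _⟩⟩, ?_⟩)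
    have hd : r ^ 2 - 2 * r ≠ 0 := by
      rw [show r ^ 2 - 2 * r = r * (r - 2) by ring]
      exact mul_ne_zero h0 (sub_ne_zero.2 h2)
    rw [← eq_comm, eq_mul_inv_iff_mul_eq₀ hd]
    linear_combination he
  have hirr : Irreducible f := by
    rw [irreducible_iff_roots_eq_zero_of_degree_le_three (by omega) (by omega)]
    exact Multiset.eq_zero_of_forall_notMem fun r hr => hroot r (isRoot_of_mem_roots hr)
  haveI := Fact.mk hirr
  let b := AdjoinRoot.powerBasis hmon.ne_zero
  haveI : Module.Finite (ZMod p) (AdjoinRoot f) := b.finite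
  haveI : Finite (AdjoinRoot f) := Module.finite_of_finite (ZMod p)
  haveI := Fintype.ofFinite (AdjoinRoot f)
  have hK : Fintype.card (AdjoinRoot f) = Fintype.card F := by
    rw [hF, Module.card_eq_pow_finrank (K := ZMod p), b.finrank, AdjoinRoot.powerBasis_dim, hdeg,
      ZMod.card]
  let e := (FiniteField.algEquivOfCardEq p hK : AdjoinRoot f ≃ₐ[ZMod p] F)
  set a : F := e (AdjoinRoot.root f) with ha
  have ha0 : aeval a f = 0 := by
    rw [ha, ← AlgEquiv.coe_toAlgHom, aeval_algHom_apply, AdjoinRoot.aeval_eq, AdjoinRoot.mk_self,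
      map_zero]
  have hfr : ∀ y : F, aeval y f = 0 → aeval (y ^ p) f = 0 := fun y hy => by
    have h := aeval_algHom_apply (FiniteField.frobeniusAlgHom (ZMod p) F) y f
    simp only [FiniteField.coe_frobeniusAlgHom, ZMod.card] at h
    rw [h, hy, zero_pow hp.out.ne_zero]
  have hnot : a ^ p ≠ a := by
    intro h
    obtain ⟨k, hk⟩ := mem_range_of_pow_eq (p := p) h
    refine hroot (k : ZMod p) ?_
    rw [← hk, ← map_natCast (algebraMap (ZMod p) F), aeval_algebraMap_apply_eq_algebraMap_eval,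
      map_eq_zero] at ha0
    exact ha0
  have hp3' : (a ^ p ^ 2) ^ p = a := by
    rw [← pow_mul, ← pow_succ, ← hF, FiniteField.pow_card]
  have hd12 : a ^ p ^ 2 ≠ a := fun h => by rw [h] at hp3'; exact hnot hp3'
  have hd23 : a ^ p ^ 2 ≠ a ^ p := fun h => by
    apply hd12
    rw [h, ← pow_mul, ← sq] at hp3'
    exact hp3'
  have hroots : ∀ y ∈ ({a, a ^ p, a ^ p ^ 2} : Finset F), aeval y f = 0 := by
    intro y hy
    simp only [mem_insert, mem_singleton] at hy
    rcases hy with rfl | rfl | rfl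
    · exact ha0
    · exact hfr _ ha0
    · rw [sq, pow_mul]; exact hfr _ (hfr _ ha0)
  set P : F[X] := ∏ y ∈ ({a, a ^ p, a ^ p ^ 2} : Finset F), (X - C y) with hP
  have hS3 : ({a, a ^ p, a ^ p ^ 2} : Finset F).card = 3 := by
    rw [card_insert_of_notMem, card_insert_of_notMem, card_singleton]
    · rw [mem_singleton]; exact hd23.symm
    · rw [mem_insert, mem_singleton, not_or]; exact ⟨hnot.symm, hd12.symm⟩
  have hPf : f.map (algebraMap (ZMod p) F) = P := by
    refine eq_of_degree_sub_lt_of_eval_finset_eq (s := ({a, a ^ p, a ^ p ^ 2} : Finset F)) ?_ ?_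
    · have h1 : (f.map (algebraMap (ZMod p) F)).natDegree = 3 := by rw [natDegree_map, hdeg]
      have h2 : P.natDegree = 3 := by rw [hP, natDegree_finsetProd_X_sub_C_eq_card, hS3]
      have hm1 : (f.map (algebraMap (ZMod p) F)).Monic := hmon.map _
      have hm2 : P.Monic := monic_prod_of_monic _ _ fun y _ => monic_X_sub_C y
      refine lt_of_lt_of_eq (degree_sub_lt_left ?_ hm1.ne_zero (hm1.leadingCoeff.trans
        hm2.leadingCoeff.symm)) ?_
      · rw [degree_eq_natDegree hm1.ne_zero, degree_eq_natDegree hm2.ne_zero, h1, h2]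
      · rw [degree_eq_natDegree hm1.ne_zero, h1, hS3]
    · intro y hy
      rw [eval_map_algebraMap, hroots y hy, hP, eval_prod, Finset.prod_eq_zero hy (by simp)]
  have hev : ∀ x : ZMod p, algebraMap (ZMod p) F (f.eval x) =
      (algebraMap (ZMod p) F x - a) * ((algebraMap (ZMod p) F x - a ^ p) *
        (algebraMap (ZMod p) F x - a ^ p ^ 2)) := by
    intro x
    rw [← eval_map_apply, hPf, hP, prod_insert (by
      rw [mem_insert, mem_singleton, not_or]; exact ⟨hnot.symm, hd12.symm⟩),
      prod_insert (by rw [mem_singleton]; exact hd23.symm), prod_singleton]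
    simp
  refine ⟨a, fun h => hnot (by rw [h, one_pow]), ?_, ?_⟩
  · have h := hev 0
    have h' : f.eval (0 : ZMod p) = -1 := by simp [hf]
    rw [h', map_neg, map_one, map_zero] at h
    rw [pow_add, pow_add, pow_one]
    linear_combination h
  · have h := hev 2
    have h' : f.eval (2 : ZMod p) = 1 := by
      simp [hf]
      ring
    rw [h', map_one, map_ofNat] at h
    have h2 : ∀ n, (2 - a) ^ p ^ n = 2 - a ^ p ^ n := fun n => by
      rw [sub_pow_char_pow]
      congr 1
      have := map_ofNat (iterateFrobenius F p n) 2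
      rwa [iterateFrobenius_def] at this
    rw [pow_add, pow_add, pow_one, h2 2, show (2 - a) ^ p = 2 - a ^ p by
      have := h2 1; rwa [pow_one] at this]
    linear_combination -h

theorem card_norm_one {n : ℕ} (hn : 0 < n) (hdvd : n ∣ Fintype.card F - 1) [DecidableEq F] :
    (univ.filter fun x : F => x ^ n = 1).card = n := by
  have h := IsCyclic.card_powMonoidHom_ker (G := Fˣ) n
  rw [Nat.card_eq_fintype_card (α := Fˣ), Fintype.card_units, Nat.gcd_eq_right hdvd] at h
  conv_rhs => rw [← h]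
  rw [← Nat.card_eq_finsetCard]
  refine Nat.card_congr
    { toFun := fun x => ⟨Units.mk0 (x : F) (fun e => by
        have := (mem_filter.1 x.2).2
        rw [e, zero_pow hn.ne'] at this
        exact zero_ne_one this), Units.ext (by simpa using (mem_filter.1 x.2).2)⟩
      invFun := fun x => ⟨((x : Fˣ) : F), mem_filter.2 ⟨mem_univ _, by
        have := congrArg Units.val (show (x : Fˣ) ^ n = 1 from x.2)
        simpa using this⟩⟩
      left_inv := fun x => rfl
      right_inv := fun x => Subtype.ext (Units.ext rfl) }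

theorem exists_pair_large {n : ℕ} (hF : Fintype.card F = p ^ q) (hq5 : 5 ≤ q) (hqp : q < p)
    (hn : n * (p - 1) = p ^ q - 1) :
    ∃ a : F, a ≠ 1 ∧ a ^ n = 1 ∧ (2 - a) ^ n = 1 := by
  classical
  by_contra hcon
  simp only [not_exists, not_and] at hcon
  obtain ⟨ψ, hψ1⟩ := (AddChar.exists_apply_ne_zero (α := F) (a := 1)).2 one_ne_zero
  have hψ : ψ.IsPrimitive := AddChar.IsPrimitive.of_ne_one fun e => hψ1 (by rw [e]; rfl)
  set U := univ.filter fun x : F => x ^ n = 1 with hU
  set Q : ℝ := (p : ℝ) ^ q with hQ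
  have hn0 : 0 < n := by
    rcases Nat.eq_zero_or_pos n with h | h
    · have := Nat.lt_pow_self (n := q) hp.out.one_lt
      rw [h, zero_mul] at hn
      have := hq.out.two_le
      omega
    · exact h
  have hUcard : U.card = n := card_norm_one hn0 (hF ▸ Dvd.intro _ hn)
  have hcast : (Fintype.card F : ℂ) = (Q : ℂ) := by rw [hF, hQ]; push_cast; rfl
  have hUmul : ∀ w ∈ U, ∀ x ∈ U, w * x ∈ U := fun w hw x hx => by
    rw [hU, mem_filter] at hw hx ⊢
    exact ⟨mem_univ _, by rw [mul_pow, hw.2, hx.2, one_mul]⟩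
  have hU0 : ∀ w ∈ U, w ≠ 0 := fun w hw e => by
    rw [hU, mem_filter, e, zero_pow hn0.ne'] at hw
    exact zero_ne_one hw.2
  set S : F → ℂ := fun b => ∑ x ∈ U, ψ (b * x) with hS
  have hSmul : ∀ w ∈ U, ∀ b, S (b * w) = S b := by
    intro w hw b
    refine Finset.sum_bij' (fun x _ => w * x) (fun x _ => w⁻¹ * x) (fun x hx => hUmul w hw x hx)
      (fun x hx => hUmul _ ?_ x hx) (fun x _ => ?_) (fun x _ => ?_) fun x _ => ?_
    · rw [hU, mem_filter] at hw ⊢
      exact ⟨mem_univ _, by rw [inv_pow, hw.2, inv_one]⟩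
    · field_simp [hU0 w hw]
    · field_simp [hU0 w hw]
    · rw [mul_assoc]
  have horth : ∀ x : F, ∑ b : F, ψ (b * x) = if x = 0 then (Q : ℂ) else 0 := fun x => by
    rw [AddChar.sum_mulShift x hψ]
    split_ifs <;> simp [hcast]
  have hL2 : ∑ b : F, ‖S b‖ ^ 2 = Q * n := by
    have h : ∑ b : F, S b * (starRingEnd ℂ) (S b) = (Q : ℂ) * n := by
      calc ∑ b : F, S b * (starRingEnd ℂ) (S b)
          = ∑ b : F, ∑ x ∈ U, ∑ y ∈ U, ψ (b * (x - y)) := by
            refine Finset.sum_congr rfl fun b _ => ?_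
            simp only [hS, map_sum, Finset.sum_mul_sum, ← AddChar.map_neg_eq_conj,
              ← AddChar.map_add_eq_mul, mul_sub]
            simp only [sub_eq_add_neg]
        _ = ∑ x ∈ U, ∑ y ∈ U, ∑ b : F, ψ (b * (x - y)) := by
            rw [Finset.sum_comm]; exact Finset.sum_congr rfl fun x _ => Finset.sum_comm
        _ = ∑ x ∈ U, ∑ y ∈ U, if x = y then (Q : ℂ) else 0 := by
            simp only [horth, sub_eq_zero]
        _ = _ := by simp [hUcard]; ring
    have h2 : ((∑ b : F, ‖S b‖ ^ 2 : ℝ) : ℂ) = ((Q * n : ℝ) : ℂ) := by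
      push_cast
      rw [← h]
      exact Finset.sum_congr rfl fun b _ => (Complex.mul_conj' _).symm
    exact_mod_cast h2
  have hSle : ∀ b : F, b ≠ 0 → ‖S b‖ ≤ Real.sqrt Q := by
    intro b hb
    refine Real.le_sqrt_of_sq_le ?_
    have h1 : (n : ℝ) * ‖S b‖ ^ 2 ≤ Q * n := by
      rw [← hL2]
      calc (n : ℝ) * ‖S b‖ ^ 2 = ∑ w ∈ U, ‖S (b * w)‖ ^ 2 := by
            rw [Finset.sum_congr rfl fun w hw => by rw [hSmul w hw b], Finset.sum_const, hUcard,
              nsmul_eq_mul]
        _ = ∑ y ∈ U.image (b * ·), ‖S y‖ ^ 2 := by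
            rw [Finset.sum_image fun x _ y _ h => mul_left_cancel₀ hb h]
        _ ≤ _ := Finset.sum_le_sum_of_subset_of_nonneg (subset_univ _) fun y _ _ => sq_nonneg _
    have hnpos : (0 : ℝ) < n := by exact_mod_cast hn0
    nlinarith
  set f : F → ℂ := fun b => S b * S b * ψ (-(2 * b)) with hf
  set m := (U.filter fun x => 2 - x ∈ U).card with hm
  have hm1 : m ≤ 1 := card_le_one.2 fun x hx y hy => by
    have key : ∀ z ∈ U.filter fun x => 2 - x ∈ U, z = 1 := fun z hz => by
      rw [hU, mem_filter, mem_filter, mem_filter] at hz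
      by_contra hz1
      exact hcon z hz1 hz.1.2 hz.2.2
    rw [key x hx, key y hy]
  have hsum : ∑ b : F, f b = (Q : ℂ) * m := by
    calc ∑ b : F, f b = ∑ b : F, ∑ x ∈ U, ∑ y ∈ U, ψ (b * (y - (2 - x))) := by
          refine Finset.sum_congr rfl fun b _ => ?_
          simp only [hf, hS, Finset.sum_mul, Finset.mul_sum, ← AddChar.map_add_eq_mul]
          refine Finset.sum_congr rfl fun x _ => Finset.sum_congr rfl fun y _ => ?_
          congr 1
          ring
      _ = ∑ x ∈ U, ∑ y ∈ U, ∑ b : F, ψ (b * (y - (2 - x))) := by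
          rw [Finset.sum_comm]; exact Finset.sum_congr rfl fun x _ => Finset.sum_comm
      _ = ∑ x ∈ U, ∑ y ∈ U, if y = 2 - x then (Q : ℂ) else 0 := by
          simp only [horth, sub_eq_zero]
      _ = _ := by
          simp only [Finset.sum_ite_eq', hm, Finset.card_filter, Nat.cast_sum, Finset.mul_sum,
            Nat.cast_ite, Nat.cast_one, Nat.cast_zero, mul_ite, mul_one, mul_zero]
  have hswap : (n : ℂ) * ∑ b : F, f b = ∑ b : F, S b * S b * S (-(2 * b)) := by
    have h : ∀ w ∈ U, ∑ b : F, f b = ∑ b : F, S b * S b * ψ (-(2 * b) * w) := by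
      intro w hw
      refine (Fintype.sum_equiv (Equiv.mulRight₀ w (hU0 w hw)) _ _ fun b => ?_).symm
      show S b * S b * ψ (-(2 * b) * w) = f (b * w)
      simp only [hf, hSmul w hw]
      ring_nf
    rw [← hUcard, ← nsmul_eq_mul, ← Finset.sum_const, Finset.sum_congr rfl h, Finset.sum_comm]
    simp only [hS, Finset.mul_sum]
  rw [hsum, ← Finset.add_sum_erase _ _ (mem_univ (0 : F))] at hswap
  have hS0 : S 0 = n := by simp [hS, hUcard]
  rw [mul_zero, neg_zero, hS0] at hswap
  have hE : ‖∑ b ∈ univ.erase (0 : F), S b * S b * S (-(2 * b))‖ ≤ Q * n * Real.sqrt Q := by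
    refine (norm_sum_le _ _).trans ?_
    rw [← hL2, Finset.sum_mul]
    refine (Finset.sum_le_sum fun b hb => ?_).trans
      (Finset.sum_le_sum_of_subset_of_nonneg (subset_univ _) fun y _ _ =>
        mul_nonneg (sq_nonneg _) (Real.sqrt_nonneg _))
    have h2 : (-(2 * b) : F) ≠ 0 := by
      refine neg_ne_zero.2 (mul_ne_zero ?_ (mem_erase.1 hb).1)
      intro e
      have h' := (CharP.cast_eq_zero_iff F p 2).1 (by exact_mod_cast e)
      exact absurd (Nat.le_of_dvd (by norm_num) h') (by omega)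
    rw [norm_mul, norm_mul, ← pow_two]
    exact mul_le_mul_of_nonneg_left (hSle _ h2) (sq_nonneg _)
  set E := ∑ b ∈ univ.erase (0 : F), S b * S b * S (-(2 * b))
  have hn' : (0 : ℝ) ≤ n := Nat.cast_nonneg n
  have hQ1 : (1 : ℝ) ≤ Q := one_le_pow₀ (by exact_mod_cast hp.out.one_le)
  have hEre : (n : ℝ) * n * n ≤ n * (Q * m) + Q * n * Real.sqrt Q := by
    have h1 := congrArg Complex.re hswap
    have h2 := (Complex.abs_re_le_norm E).trans hE
    rw [abs_le] at h2
    simp only [Complex.mul_re, Complex.add_re, Complex.natCast_re, Complex.natCast_im,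
      Complex.ofReal_re, Complex.ofReal_im, Complex.mul_im, mul_zero, zero_mul, sub_zero, add_zero]
      at h1
    linarith [h2.1]
  have hm' : (m : ℝ) ≤ 1 := by exact_mod_cast hm1
  have hsq : Real.sqrt Q ^ 2 = Q := Real.sq_sqrt (by linarith)
  have hs1 : 1 ≤ Real.sqrt Q := Real.one_le_sqrt.2 hQ1
  have hn2 : (n : ℝ) * n ≤ 2 * (Q * Real.sqrt Q) := by
    have hnpos : (0 : ℝ) < n := by exact_mod_cast hn0
    have h1 : Q * m ≤ Q * Real.sqrt Q :=
      mul_le_mul_of_nonneg_left (hm'.trans hs1) (by linarith)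
    refine le_of_mul_le_mul_right ?_ hnpos
    nlinarith [mul_le_mul_of_nonneg_left h1 hn']
  have hn4 : ((n : ℝ) * n) ^ 2 ≤ 4 * Q ^ 3 := by
    calc ((n : ℝ) * n) ^ 2 ≤ (2 * (Q * Real.sqrt Q)) ^ 2 := by
          exact pow_le_pow_left₀ (mul_nonneg hn' hn') hn2 2
      _ = 4 * Q ^ 3 := by rw [mul_pow, mul_pow, hsq]; ring
  have hnat : n ^ 4 ≤ 4 * (p ^ q) ^ 3 := by
    have : (((n ^ 4 : ℕ)) : ℝ) ≤ ((4 * (p ^ q) ^ 3 : ℕ) : ℝ) := by
      push_cast
      rw [← hQ]
      nlinarith [hn4]
    exact_mod_cast this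
  -- `n ≥ p ^ (q - 1)`
  have hlow : p ^ (q - 1) ≤ n := by
    by_contra hlt
    have h2 : (n + 1) * (p - 1) ≤ p ^ (q - 1) * (p - 1) := Nat.mul_le_mul_right _ (not_le.1 hlt)
    have e : p ^ (q - 1) * p = p ^ q := by rw [← pow_succ, Nat.sub_add_cancel (by omega)]
    rw [add_mul, one_mul, hn, Nat.mul_sub, mul_one, e] at h2
    have := Nat.one_le_pow (q - 1) p hp.out.pos
    have := Nat.one_le_pow q p hp.out.pos
    have h4 : p ^ (q - 1) * 2 ≤ p ^ (q - 1) * p := Nat.mul_le_mul_left _ hp.out.two_le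
    omega
  have h5 : p ^ (q - 1) ≤ n := hlow
  have h6 : (p ^ (q - 1)) ^ 4 ≤ 4 * (p ^ q) ^ 3 := (Nat.pow_le_pow_left h5 4).trans hnat
  rw [← pow_mul, ← pow_mul] at h6
  have h7 : p ^ (q * 3) * p ≤ p ^ ((q - 1) * 4) := by
    rw [← pow_succ]; exact Nat.pow_le_pow_right hp.out.pos (by omega)
  have h8 : p ^ (q * 3) * p ≤ p ^ (q * 3) * 4 := by
    rw [mul_comm _ 4]; omega
  have := Nat.le_of_mul_le_mul_left h8 (pow_pos hp.out.pos _)
  omega

end Cfsg.Agent.AppC
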