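import Cfsg.Prelude.Def_ClassificationStages
import Cfsg.Agent.AppC.Contra

set_option autoImplicit false
set_option linter.style.haveILetI false
set_option maxHeartbeats 1000000

/-!
Groups of two-prime parabolic type carry the data of `Conf`; in consequence no group whatever is of
two-prime parabolic type.
-/

namespace Cfsg.Agent.AppC

open Polynomial
open scoped Pointwise

universe u

/-- A cyclic group of order `(p ^ q - 1) / (p - 1)` acting semiregularly on an elementary abelian
group of order `p ^ q` gives the data `Conf`. -/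
theorem exists_conf {G : Type u} [Group G] {p q : ℕ} [hp : Fact p.Prime] [hq : Fact q.Prime]
    {g s0 y : G} {P Q : Subgroup G} {u : ℕ}
    (hu : u * (p - 1) = p ^ q - 1) (hug : orderOf g = u)
    (hPc : ∀ a ∈ P, ∀ b ∈ P, a * b = b * a) (hPp : ∀ a ∈ P, a ^ p = 1)
    (hPcard : Nat.card P = p ^ q) (hPg : ∀ x ∈ P, g * x * g⁻¹ ∈ P)
    (hfpf : ∀ (n : ℕ), ∀ x ∈ P, g ^ n * x = x * g ^ n → x ≠ 1 → g ^ n = 1)
    (hs0 : s0 ∈ P) (hs1 : s0 ≠ 1) (hQc : ∀ a ∈ Q, ∀ b ∈ Q, a * b = b * a) (hQq : IsPGroup q Q)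
    (hQs : ∀ z ∈ Q, s0 * z * s0⁻¹ ∈ Q) (hy : y ∈ Q)
    (hnorm : ∀ n : ℕ, ∃ m : ℕ, y * s0 * y⁻¹ * g ^ n * (y * s0 * y⁻¹)⁻¹ = g ^ m) :
    ∃ (F : Type) (_ : Field F) (_ : Fintype F) (_ : Algebra (ZMod p) F) (_ : CharP F p)
      (h : Conf p q G F), Fintype.card F = p ^ q ∧ h.u = u := by
  classical
  letI : CommGroup P :=
    { P.toGroup with mul_comm := fun a b => Subtype.ext (hPc _ a.2 _ b.2) }
  haveI : Module (ZMod p) (Additive P) := AddCommGroup.zmodModule fun x =>
    Additive.toMul.injective (Subtype.ext (hPp _ x.toMul.2))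
  haveI : Finite P := Nat.finite_of_card_ne_zero (hPcard ▸ pow_ne_zero _ hp.out.ne_zero)
  haveI : Nontrivial (Additive P) :=
    ⟨⟨Additive.ofMul ⟨s0, hs0⟩, 0, fun e => hs1 (congrArg (fun x => (x.toMul : G)) e)⟩⟩
  have hu0 : u ≠ 0 := by
    rintro rfl
    have := Nat.one_lt_pow hq.out.ne_zero hp.out.one_lt
    omega
  have hupow : p ^ (q - 1) ≤ u := by
    have h2 := hp.out.two_le
    have e : p ^ (q - 1) * p = p ^ q := by
      rw [← pow_succ, Nat.sub_add_cancel hq.out.one_le]
    refine Nat.le_of_mul_le_mul_right (?_ : p ^ (q - 1) * (p - 1) ≤ u * (p - 1)) (by omega)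
    rw [hu, Nat.mul_sub, mul_one, e]
    have := Nat.one_le_pow (q - 1) p (by omega)
    omega
  -- conjugation by the generator
  let α : Module.End (ZMod p) (Additive P) :=
    (AddMonoidHom.mk' (fun x : Additive P =>
      Additive.ofMul (⟨g * (x.toMul : G) * g⁻¹, hPg _ x.toMul.2⟩ : P)) fun x y => by
        refine congrArg Additive.ofMul (Subtype.ext ?_)
        show g * ((x.toMul : G) * (y.toMul : G)) * g⁻¹ = _
        simp [mul_assoc]).toZModLinearMap p
  have hαn : ∀ (n : ℕ) (x : Additive P),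
      (((α ^ n : Module.End (ZMod p) (Additive P)) x).toMul : G) = g ^ n * (x.toMul : G) * (g ^ n)⁻¹ := by
    intro n
    induction n with
    | zero => intro x; simp
    | succ n ih =>
      intro x
      rw [pow_succ']
      show g * (((α ^ n) x).toMul : G) * g⁻¹ = _
      rw [ih, pow_succ']
      group
  have hαfpf : ∀ (n : ℕ) (x : Additive P), x ≠ 0 → (α ^ n) x = x → g ^ n = 1 := by
    intro n x hx e
    have h1 := hαn n x
    rw [e, eq_mul_inv_iff_mul_eq] at h1
    exact hfpf n _ x.toMul.2 h1.symm fun e1 => hx (Additive.toMul.injective (Subtype.ext e1))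
  have hαu : α ^ u = 1 := by
    refine LinearMap.ext fun x => Additive.toMul.injective (Subtype.ext ?_)
    rw [hαn, ← hug, pow_orderOf_eq_one]
    simp
  -- invariant subgroups are trivial or everything
  have hirr : ∀ W : AddSubgroup (Additive P), (∀ x ∈ W, α x ∈ W) → ∀ x0 ∈ W, x0 ≠ 0 → W = ⊤ := by
    intro W hW x0 hx0 hne
    have hmem : ∀ n : ℕ, (α ^ n) x0 ∈ W := by
      intro n
      induction n with
      | zero => simpa using hx0
      | succ n ih => rw [pow_succ']; exact hW _ ih
    let f : Fin u ⊕ Unit → W := Sum.elim (fun i => ⟨(α ^ i.val) x0, hmem i⟩) fun _ => 0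
    have hf0 : ∀ n : ℕ, (α ^ n) x0 ≠ 0 := by
      intro n e
      have h1 := hαn n x0
      rw [e] at h1
      apply hne
      refine Additive.toMul.injective (Subtype.ext ?_)
      have : (x0.toMul : G) = (g ^ n)⁻¹ * 1 * g ^ n := by
        rw [show (1 : G) = ((0 : Additive P).toMul : G) from rfl, h1]; group
      rw [this]; simp
    have hf : Function.Injective f := by
      rintro (i | i) (j | j) e
      · have e' : (α ^ i.val) x0 = (α ^ j.val) x0 := congrArg Subtype.val e
        wlog hij : i.val ≤ j.val generalizing i j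
        · exact (this j i e.symm e'.symm (le_of_not_ge hij)).symm
        rw [← Nat.sub_add_cancel hij, pow_add] at e'
        have e'' : (α ^ i.val) ((α ^ (j.val - i.val)) x0) = (α ^ i.val) x0 := by
          rw [← Module.End.mul_apply, ← pow_add, add_comm, pow_add]
          exact e'.symm
        have h1 : (α ^ (j.val - i.val)) x0 = x0 := by
          have hinv : ∀ z, (α ^ (u - i.val)) ((α ^ i.val) z) = z := fun z => by
            rw [← Module.End.mul_apply, ← pow_add, Nat.sub_add_cancel i.isLt.le, hαu]; rfl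
          have := congrArg (α ^ (u - i.val)) e''
          rwa [hinv, hinv] at this
        have h2 := hαfpf _ _ hne h1
        rw [← orderOf_dvd_iff_pow_eq_one, hug] at h2
        have h3 := Nat.eq_zero_of_dvd_of_lt h2 (by omega)
        exact congrArg Sum.inl (Fin.ext (by omega))
      · exact absurd (congrArg Subtype.val e) (hf0 _)
      · exact absurd (congrArg Subtype.val e).symm (hf0 _)
      · rfl
    have h1 : u + 1 ≤ Nat.card W := by
      have := Nat.card_le_card_of_injective f hf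
      simpa using this
    have h2 : Nat.card W ∣ p ^ q := hPcard ▸ AddSubgroup.card_addSubgroup_dvd_card W
    obtain ⟨k, hk, hk'⟩ := (Nat.dvd_prime_pow hp.out).1 h2
    have hkq : k = q := by
      by_contra hkq
      have : p ^ k ≤ p ^ (q - 1) := Nat.pow_le_pow_right hp.out.pos (by omega)
      omega
    refine AddSubgroup.eq_top_of_card_eq _ ?_
    rw [hk', hkq, ← hPcard]
    rfl
  haveI : Nontrivial (Module.End (ZMod p) (Additive P)) := inferInstance
  have hint : IsIntegral (ZMod p) α := Algebra.IsIntegral.isIntegral α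
  obtain ⟨f, hfirr, hfdvd⟩ := WfDvdMonoid.exists_irreducible_factor
    (minpoly.not_isUnit (ZMod p) α) (minpoly.ne_zero hint)
  haveI : Fact (Irreducible f) := ⟨hfirr⟩
  have hfα : aeval α f = 0 := by
    set W : AddSubgroup (Additive P) := (LinearMap.ker (aeval α f)).toAddSubgroup with hW
    have hne : ∃ x, x ≠ 0 ∧ aeval α f x = 0 := by
      by_contra hcon
      push_neg at hcon
      have hinj : Function.Injective (aeval α f) := (injective_iff_map_eq_zero _).2 fun x hx => by
        by_contra hx0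
        exact hcon x hx0 hx
      obtain ⟨m, hm⟩ := hfdvd
      have h1 : aeval α m = 0 := by
        refine LinearMap.ext fun x => hinj ?_
        rw [← Module.End.mul_apply, ← map_mul, ← hm, minpoly.aeval]
        simp
      have hm0 : m ≠ 0 := fun e => minpoly.ne_zero hint (by rw [hm, e, mul_zero])
      have h2 := natDegree_le_of_dvd (minpoly.dvd (ZMod p) α h1) hm0
      rw [hm, natDegree_mul hfirr.ne_zero hm0] at h2
      have := hfirr.natDegree_pos
      omega
    obtain ⟨x0, hx0, hx0'⟩ := hne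
    have h := hirr W (fun x hx => by
      show aeval α f (α x) = 0
      have hx' : aeval α f x = 0 := hx
      have hc : aeval α f * α = α * aeval α f := by
        have := congrArg (aeval α) (mul_comm f X)
        simpa only [map_mul, aeval_X] using this
      rw [← Module.End.mul_apply, hc, Module.End.mul_apply, hx', map_zero])
      x0 hx0' hx0
    refine LinearMap.ext fun x => ?_
    have : x ∈ W := by rw [h]; trivial
    exact this
  let Φ : AdjoinRoot f →+* Module.End (ZMod p) (Additive P) :=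
    Ideal.Quotient.lift (Ideal.span {f}) (aeval α).toRingHom fun a ha => by
      obtain ⟨m, rfl⟩ := Ideal.mem_span_singleton'.1 ha
      show aeval α (m * f) = 0
      rw [map_mul, hfα, mul_zero]
  have hΦr : Φ (AdjoinRoot.root f) = α := by
    show aeval α X = α
    exact aeval_X α
  let v0 : Additive P := Additive.ofMul ⟨s0, hs0⟩
  have hv0 : v0 ≠ 0 := fun e => hs1 (congrArg (fun x => (x.toMul : G)) e)
  let ev : AdjoinRoot f →+ Additive P := AddMonoidHom.mk' (fun x => Φ x v0) fun a b => by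
    rw [map_add]; rfl
  have hevinj : Function.Injective ev := (injective_iff_map_eq_zero _).2 fun x hx => by
    by_contra hx0
    apply hv0
    have h1 : Φ (x⁻¹ * x) v0 = 0 := by
      rw [map_mul, Module.End.mul_apply]
      show Φ x⁻¹ (ev x) = 0
      rw [hx, map_zero]
    rwa [inv_mul_cancel₀ hx0, map_one] at h1
  have hevsurj : Function.Surjective ev := by
    have h := hirr ev.range (fun x hx => by
      obtain ⟨a, rfl⟩ := hx
      refine ⟨AdjoinRoot.root f * a, ?_⟩
      show Φ (AdjoinRoot.root f * a) v0 = α (Φ a v0)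
      rw [map_mul, hΦr]; rfl) v0 ⟨1, by show Φ 1 v0 = v0; rw [map_one]; rfl⟩ hv0
    exact AddMonoidHom.range_eq_top.1 h
  haveI : Finite (AdjoinRoot f) := Finite.of_injective _ hevinj
  letI : Fintype (AdjoinRoot f) := Fintype.ofFinite _
  haveI : CharP (AdjoinRoot f) p :=
    charP_of_injective_algebraMap (algebraMap (ZMod p) (AdjoinRoot f)).injective p
  have hcardF : Fintype.card (AdjoinRoot f) = p ^ q := by
    rw [← Nat.card_eq_fintype_card, Nat.card_eq_of_bijective ev ⟨hevinj, hevsurj⟩, ← hPcard]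
    rfl
  have hΦinj : Function.Injective Φ := RingHom.injective Φ
  set r := AdjoinRoot.root f with hr
  have hrg : ∀ n : ℕ, r ^ n = 1 ↔ g ^ n = 1 := by
    intro n
    refine ⟨fun e => hαfpf n v0 hv0 ?_, fun e => hΦinj ?_⟩
    · rw [← hΦr, ← map_pow, e, map_one]; rfl
    · rw [map_pow, hΦr, map_one]
      refine LinearMap.ext fun x => Additive.toMul.injective (Subtype.ext ?_)
      rw [hαn, e]
      simp
  have hord : orderOf r = u := hug ▸ orderOf_eq_orderOf_iff.2 hrg
  have hru : IsPrimitiveRoot r u := hord ▸ IsPrimitiveRoot.orderOf r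
  haveI : NeZero u := ⟨hu0⟩
  have hmod : ∀ m n : ℕ, r ^ m = r ^ n → m % u = n % u := fun m n e => by
    rw [← pow_mod_orderOf r m, ← pow_mod_orderOf r n, hord] at e
    exact hru.pow_inj (Nat.mod_lt _ (Nat.pos_of_ne_zero hu0)) (Nat.mod_lt _ (Nat.pos_of_ne_zero hu0)) e
  let ρ : AdjoinRoot f → G := fun w => if hw : ∃ n : ℕ, r ^ n = w then g ^ hw.choose else 1
  have hρ : ∀ n : ℕ, ρ (r ^ n) = g ^ n := by
    intro n
    have hex : ∃ m : ℕ, r ^ m = r ^ n := ⟨n, rfl⟩
    show dite _ _ _ = _
    rw [dif_pos hex]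
    have h1 := hex.choose_spec
    rw [← pow_mod_orderOf g, ← pow_mod_orderOf g n, hug, hmod _ _ h1]
  have hU : ∀ w : AdjoinRoot f, w ^ u = 1 → ∃ n : ℕ, r ^ n = w := fun w hw => by
    obtain ⟨i, -, hi⟩ := hru.eq_pow_of_pow_eq_one hw
    exact ⟨i, hi⟩
  refine ⟨AdjoinRoot f, inferInstance, inferInstance, inferInstance, inferInstance,
    { u := u
      u_mul := hu
      e := fun x => ((ev x).toMul : G)
      e_add := fun a b => by rw [map_add]; rfl
      e_inj := fun a b hab => hevinj (Additive.toMul.injective (Subtype.ext hab))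
      ρ := ρ
      ρ_mul := fun v w hv hw => by
        obtain ⟨i, rfl⟩ := hU v hv
        obtain ⟨j, rfl⟩ := hU w hw
        rw [← pow_add, hρ, hρ, hρ, pow_add]
      ρ_inj := fun v w hv hw e => by
        obtain ⟨i, rfl⟩ := hU v hv
        obtain ⟨j, rfl⟩ := hU w hw
        rw [hρ, hρ, pow_eq_pow_iff_modEq, hug] at e
        rw [← pow_mod_orderOf r i, ← pow_mod_orderOf r j, hord, e]
      act := fun w hw x => by
        obtain ⟨i, rfl⟩ := hU w hw
        rw [hρ, ← hαn]
        show _ = ((Φ (r ^ i * x) v0).toMul : G)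
        rw [map_mul, map_pow, hΦr]
        rfl
      Q := Q
      Q_comm := hQc
      Q_q := hQq
      Q_conj := fun z hz => by
        have e1 : ((ev 1).toMul : G) = s0 := by
          show ((Φ 1 v0).toMul : G) = s0
          rw [map_one]; rfl
        rw [e1]; exact hQs z hz
      t := y * s0 * y⁻¹
      t_pow := by rw [conj_pow, hPp _ hs0]; group
      t_mem := by
        have e1 : ((ev 1).toMul : G) = s0 := by
          show ((Φ 1 v0).toMul : G) = s0
          rw [map_one]; rfl
        rw [e1, mul_assoc y, mul_assoc y]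
        exact Q.mul_mem hy (hQs _ (inv_mem hy))
      t_norm := fun w hw => by
        obtain ⟨i, rfl⟩ := hU w hw
        obtain ⟨m, hm⟩ := hnorm i
        refine ⟨r ^ m, by rw [← pow_mul, mul_comm, pow_mul, hru.pow_eq_one, one_pow], ?_⟩
        rw [hρ, hρ, hm] },
    hcardF, rfl⟩

/-- No group is of two-prime parabolic type. -/
theorem not_isParabolicType {G : Type u} [Group G] (p q : ℕ) : ¬ IsParabolicType p q G := by
  rintro ⟨hp, hq, -, hq2, hqp, hcop, H, A, P, hAH, hPH, -, hfc, hker, ⟨hPc, hPp⟩, hPcard, hAc,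
    hAcard, P₀, hP₀, hP₀card, Q, hQc, hQq, hQn, y, hy, hyn⟩
  haveI := Fact.mk hp
  haveI := Fact.mk hq
  have hdiv : (p ^ q - 1) / (p - 1) * (p - 1) = p ^ q - 1 :=
    Nat.div_mul_cancel (Nat.sub_one_dvd_pow_sub_one p q)
  obtain ⟨g, hg⟩ := IsCyclic.exists_generator (α := A)
  have hug : orderOf (g : G) = (p ^ q - 1) / (p - 1) := by
    rw [Subgroup.orderOf_coe, orderOf_eq_card_of_forall_mem_zpowers hg, hAcard]
  have hkerinv : ∀ a ∈ A, ∀ x ∈ P, a * x * a⁻¹ ∈ P := by
    intro a ha x hx
    have h1 : (⟨x, hPH hx⟩ : H) ∈ frobeniusKernel (A.subgroupOf H) := by rw [hker]; exact hx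
    have h2 : (⟨a, hAH ha⟩ * ⟨x, hPH hx⟩ * ⟨a, hAH ha⟩⁻¹ : H) ∈
        frobeniusKernel (A.subgroupOf H) := by
      rcases h1 with h1 | h1
      · left; rw [h1]; group
      · right
        intro k hk
        refine h1 (⟨a, hAH ha⟩⁻¹ * k) ?_
        rw [Subgroup.mem_pointwise_smul_iff_inv_smul_mem] at hk ⊢
        convert hk using 1
        simp only [MulAut.smul_def, MulAut.inv_def, MulAut.conj_symm_apply, mul_inv_rev, inv_inv]
        group
    rw [hker] at h2
    exact h2
  have hfix : ∀ a ∈ A, ∀ x ∈ P, a * x = x * a → x ≠ 1 → a = 1 := by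
    intro a ha x hx e hx1
    have h1 : (⟨x, hPH hx⟩ : H) ∈ frobeniusKernel (A.subgroupOf H) := by rw [hker]; exact hx
    rcases h1 with h1 | h1
    · exact absurd (congrArg Subtype.val h1) hx1
    have hxA : (⟨x, hPH hx⟩ : H) ∉ A.subgroupOf H := fun hxA => h1 1 (by simpa using hxA)
    have h2 : (⟨a, hAH ha⟩ : H) ∈ A.subgroupOf H ⊓ MulAut.conj (⟨x, hPH hx⟩ : H) • A.subgroupOf H := by
      refine Subgroup.mem_inf.2 ⟨ha, ?_⟩
      rw [Subgroup.mem_pointwise_smul_iff_inv_smul_mem]
      show x⁻¹ * a * x ∈ A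
      rw [mul_assoc, e, ← mul_assoc, inv_mul_cancel, one_mul]
      exact ha
    rw [hfc.2.2 _ hxA, Subgroup.mem_bot] at h2
    exact congrArg Subtype.val h2
  obtain ⟨s0, hs0, hs1⟩ : ∃ s0 ∈ P₀, s0 ≠ 1 := by
    by_contra hcon
    push_neg at hcon
    have : P₀ = ⊥ := (Subgroup.eq_bot_iff_forall _).2 hcon
    rw [this, Subgroup.card_bot] at hP₀card
    exact hp.ne_one hP₀card.symm
  have hnorm : ∀ n : ℕ, ∃ m : ℕ,
      y * s0 * y⁻¹ * (g : G) ^ n * (y * s0 * y⁻¹)⁻¹ = (g : G) ^ m := by
    intro n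
    have h1 : y * s0 * y⁻¹ ∈ Subgroup.normalizer (A : Set G) :=
      hyn ⟨s0, hs0, rfl⟩
    have h2 := (Subgroup.mem_normalizer_iff.1 h1 ((g : G) ^ n)).1 (pow_mem g.2 n)
    haveI : Finite A := Nat.finite_of_card_ne_zero (by
      rw [hAcard]
      intro e
      rw [e, zero_mul] at hdiv
      have := Nat.one_lt_pow hq.ne_zero hp.one_lt
      omega)
    obtain ⟨m, hm⟩ := (isOfFinOrder_of_finite g).mem_powers_iff_mem_zpowers.2 (hg ⟨_, h2⟩)
    exact ⟨m, (congrArg Subtype.val hm).symm⟩
  obtain ⟨F, iF, iFt, iA, iC, h, hcard, hh⟩ := exists_conf (p := p) (q := q) (g := (g : G))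
    (s0 := s0) (y := y) (P := P) (Q := Q) hdiv hug
    (fun a ha b hb => congrArg Subtype.val (hPc.1.comm ⟨a, ha⟩ ⟨b, hb⟩)) hPp hPcard
    (fun x hx => hkerinv _ g.2 x hx)
    (fun n x hx e hx1 => hfix _ (pow_mem g.2 n) x hx e hx1)
    (hP₀ hs0) hs1 (fun a ha b hb => congrArg Subtype.val (hQc.1.comm ⟨a, ha⟩ ⟨b, hb⟩)) hQq
    (fun z hz => hQn s0 hs0 z hz) hy hnorm
  exact h.false hcard hq2 hqp (hh ▸ hcop)

end Cfsg.Agent.AppC
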